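import Mathlib

/-!
# S5211 (`q = 2`): the Boolean model of `Q_b` and the finite verification
-/

set_option autoImplicit false

namespace Cfsg.Agent.H505.GT

/-- the Boolean model of `Q_b` -/
@[ext] structure B5 where
  a : Bool
  c : Bool
  d : Bool
  e : Bool
  f : Bool

namespace B5

/-- product -/
def ml (x y : B5) : B5 :=
  ⟨x.a ^^ y.a, x.c ^^ y.c, x.d ^^ y.d, (x.e ^^ y.e) ^^ ((x.d ^^ x.c) && y.a), (x.f ^^ y.f) ^^ ((x.d && y.c) ^^ (x.c && y.a))⟩

/-- inverse -/
def iv (x : B5) : B5 := ⟨x.a, x.c, x.d, x.e ^^ (x.a && (x.d ^^ x.c)), x.f ^^ ((x.c && x.d) ^^ (x.a && x.c))⟩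

/-- Boolean equality -/
def bq (x y : B5) : Bool := !(x.a ^^ y.a) && !(x.c ^^ y.c) && !(x.d ^^ y.d) && !(x.e ^^ y.e) && !(x.f ^^ y.f)

theorem bq_iff (x y : B5) : bq x y = true ↔ x = y := by
  have key : ∀ u v : Bool, (u ^^ v) = false ↔ u = v := by decide
  rcases x with ⟨x1, x2, x3, x4, x5⟩
  rcases y with ⟨y1, y2, y3, y4, y5⟩
  simp only [bq, B5.mk.injEq, Bool.and_eq_true, Bool.not_eq_true', key, and_assoc]

/-- commutator -/
def cm (x y : B5) : B5 := ml (ml x y) (ml (iv x) (iv y))

/-- conjugation -/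
def cj (g x : B5) : B5 := ml (ml g x) (iv g)

def one : B5 := ⟨false, false, false, false, false⟩
def g1 : B5 := ⟨true, false, false, false, false⟩
def g3 : B5 := ⟨false, true, false, false, false⟩
def g4 : B5 := ⟨false, false, true, false, false⟩
def g5 : B5 := ⟨false, false, false, true, false⟩
def g6 : B5 := ⟨false, false, false, false, true⟩
def g56 : B5 := ⟨false, false, false, true, true⟩

/-- power with a Boolean exponent -/
def pw (x : B5) (b : Bool) : B5 := cond b x one

/-- the value at `g` of the endomorphism with the given values on the generators -/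
def F (X1 X3 X4 X5 X6 g : B5) : B5 := ml (ml (ml (ml (pw X1 g.a) (pw X3 g.c)) (pw X4 g.d)) (pw X5 g.e)) (pw X6 g.f)

/-- conjugation by `x₂` -/
def c2 (x : B5) : B5 := ⟨x.a, x.a ^^ x.c, x.a ^^ x.d, x.a ^^ x.e, x.e ^^ x.f ^^ (x.a && x.c)⟩

/-- the Weyl element -/
def wB (x : B5) : B5 := ⟨x.c, x.a, x.d, x.f ^^ (x.a && x.c), x.e ^^ (x.a && x.c)⟩

/-- four automorphisms of `S`, on `Q_b` -/
def th (s t : Bool) (x : B5) : B5 :=
  ⟨x.a, cond s x.d x.c, cond s x.c x.d, x.e, (x.f ^^ (s && (x.e ^^ (x.c && x.d)))) ^^ (t && (x.c ^^ x.d))⟩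

/-- `x` is a noncentral involution -/
def ni (x : B5) : Bool := (x.a || x.c || x.d) && bq (ml x x) one

/-- the triple of values of `X ∘ Y` where both are given by the values on the generators is compared with `Z` -/
def inn (Y1 Y3 Y4 : B5) : Bool :=
  (bq (cj ⟨false, false, false, false, false⟩ g1) Y1 && bq (cj ⟨false, false, false, false, false⟩ g3) Y3 && bq (cj ⟨false, false, false, false, false⟩ g4) Y4) ||
  (bq (cj ⟨true, false, false, false, false⟩ g1) Y1 && bq (cj ⟨true, false, false, false, false⟩ g3) Y3 && bq (cj ⟨true, false, false, false, false⟩ g4) Y4) ||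
  (bq (cj ⟨false, true, false, false, false⟩ g1) Y1 && bq (cj ⟨false, true, false, false, false⟩ g3) Y3 && bq (cj ⟨false, true, false, false, false⟩ g4) Y4) ||
  (bq (cj ⟨true, true, false, false, false⟩ g1) Y1 && bq (cj ⟨true, true, false, false, false⟩ g3) Y3 && bq (cj ⟨true, true, false, false, false⟩ g4) Y4) ||
  (bq (cj ⟨false, false, true, false, false⟩ g1) Y1 && bq (cj ⟨false, false, true, false, false⟩ g3) Y3 && bq (cj ⟨false, false, true, false, false⟩ g4) Y4) ||
  (bq (cj ⟨true, false, true, false, false⟩ g1) Y1 && bq (cj ⟨true, false, true, false, false⟩ g3) Y3 && bq (cj ⟨true, false, true, false, false⟩ g4) Y4) ||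
  (bq (cj ⟨false, true, true, false, false⟩ g1) Y1 && bq (cj ⟨false, true, true, false, false⟩ g3) Y3 && bq (cj ⟨false, true, true, false, false⟩ g4) Y4) ||
  (bq (cj ⟨true, true, true, false, false⟩ g1) Y1 && bq (cj ⟨true, true, true, false, false⟩ g3) Y3 && bq (cj ⟨true, true, true, false, false⟩ g4) Y4)

/-- quantifier over `B5` -/
def all (P : B5 → Bool) : Bool :=
  [true, false].all fun a => [true, false].all fun c => [true, false].all fun d => [true, false].all fun e =>
    [true, false].all fun f => P ⟨a, c, d, e, f⟩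

theorem all_iff (P : B5 → Bool) : all P = true ↔ ∀ x, P x = true := by
  constructor
  · intro h x
    rcases x with ⟨a, c, d, e, f⟩
    simp only [all, List.all_eq_true] at h
    exact h a (by cases a <;> simp) c (by cases c <;> simp) d (by cases d <;> simp) e (by cases e <;> simp) f
      (by cases f <;> simp)
  · intro h
    simp only [all, List.all_eq_true]
    intros
    exact h _

/-- quantifier over representatives modulo the center -/
def any8 (P : B5 → Bool) : Bool :=
  [true, false].any fun a => [true, false].any fun c => [true, false].any fun d => P ⟨a, c, d, false, false⟩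

theorem any8_imp (P : B5 → Bool) (h : any8 P = true) : ∃ x, P x = true := by
  simp only [any8, List.any_eq_true] at h
  obtain ⟨a, -, c, -, d, -, h⟩ := h
  exact ⟨_, h⟩

def kerCheck : Bool := all fun X1 => !ni X1 || all fun X4 => !ni X4 || !bq (cm X1 X4) g5 || all fun X3 => !ni X3 ||
  !bq (cm X3 X4) g6 || !bq (cm X1 X3) g56 ||
    (let F' := F X1 X3 X4 g5 g6
     bq (F' (F' (F' X1))) g1 && bq (F' (F' (F' X3))) g3 && bq (F' (F' (F' X4))) g4)

theorem kerCheck_eq : kerCheck = true := by decide +kernel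

def mainCheck : Bool := all fun X1 => !ni X1 || all fun X4 => !ni X4 || !bq (cm X1 X4) g56 || all fun X3 => !ni X3 ||
  !bq (cm X3 X4) g5 || !bq (cm X1 X3) g6 ||
    (let F' := F X1 X3 X4 g56 g5
     !inn (c2 (F' (c2 X1))) (c2 (F' (c2 X3))) (c2 (F' (c2 X4))) || !inn (F' (F' X1)) (F' (F' X3)) (F' (F' X4)) ||
     ([true, false].any fun t => any8 fun g =>
       bq (th false t X1) (cj g (wB (c2 (th false t g1)))) && bq (th false t X3) (cj g (wB (c2 (th false t g3)))) &&
       bq (th false t X4) (cj g (wB (c2 (th false t g4))))) ||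
     ([true, false].any fun t => any8 fun g =>
       bq (th true t X1) (cj g (c2 (wB (th true t g1)))) && bq (th true t X3) (cj g (c2 (wB (th true t g3)))) &&
       bq (th true t X4) (cj g (c2 (wB (th true t g4))))))

theorem mainCheck_eq : mainCheck = true := by decide +kernel

end B5

end Cfsg.Agent.H505.GT
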