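import Cfsg.Agent.H505.GT.Model

/-!
# S5211 (`q = 2`): generalities on `ConjOn` and `autInducedBy`
-/

set_option autoImplicit false

namespace Cfsg.Agent.H505.GT

open Cfsg Cfsg.FusionSystem Cfsg.Agent.H756.PU Cfsg.Agent.H779.G2

universe u

theorem mem_aut_iff {G : Type u} [Group G] (Q : Subgroup G) [Q.Normal] (α : MulAut Q) :
    α ∈ autInducedBy ⊤ Q ↔ ∃ x : G, α = MulAut.conjNormal x := by
  constructor
  · intro h
    have h1 : autInducedBy ⊤ Q ≤ (MulAut.conjNormal (H := Q)).range := by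
      rw [autInducedBy, Subgroup.closure_le]
      rintro β ⟨g, -, hg⟩
      refine ⟨g, ?_⟩
      ext x
      rw [MulAut.conjNormal_apply, hg x]
    obtain ⟨x, hx⟩ := h1 h
    exact ⟨x, hx.symm⟩
  · rintro ⟨x, rfl⟩
    exact Subgroup.subset_closure ⟨x, Subgroup.mem_top _, fun e => MulAut.conjNormal_apply x e⟩

theorem conj_mem_aut {G : Type u} [Group G] (Q : Subgroup G) [Q.Normal] (x : G) :
    MulAut.conjNormal x ∈ autInducedBy ⊤ Q := (mem_aut_iff Q _).2 ⟨x, rfl⟩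

section
variable {K : Type u} [Field K]

/-- restriction to an invariant subgroup -/
def rs {Q : Subgroup (GU K)} (θ : MulAut (GU K)) (hQ : ∀ g, g ∈ Q ↔ θ g ∈ Q) : MulAut Q where
  toFun g := ⟨θ g, (hQ g).1 g.2⟩
  invFun g := ⟨θ.symm g, (hQ _).2 (by rw [MulEquiv.apply_symm_apply]; exact g.2)⟩
  left_inv g := by ext1; exact θ.symm_apply_apply g
  right_inv g := by ext1; exact θ.apply_symm_apply g
  map_mul' x y := by ext1; exact map_mul θ _ _

theorem rs_apply {Q : Subgroup (GU K)} (θ : MulAut (GU K)) (hQ : ∀ g, g ∈ Q ↔ θ g ∈ Q) (g : Q) :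
    ((rs θ hQ g : Q) : GU K) = θ g := rfl

theorem conjOn_iff {Q : Subgroup (GU K)} (θ : MulAut (GU K)) (hQ : ∀ g, g ∈ Q ↔ θ g ∈ Q) (Γ Γ' : Subgroup (MulAut Q)) :
    ConjOn θ Γ Γ' ↔ ∀ γ, γ ∈ Γ' ↔ (rs θ hQ)⁻¹ * γ * rs θ hQ ∈ Γ := by
  have key : ∀ γ δ : MulAut Q, (∀ g g' : Q, (g' : GU K) = θ g → θ ((δ g : Q) : GU K) = (γ g' : Q)) ↔
      δ = (rs θ hQ)⁻¹ * γ * rs θ hQ := by
    intro γ δ
    constructor
    · intro hh
      have : rs θ hQ * δ = γ * rs θ hQ := by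
        refine MulEquiv.ext fun g => ?_
        apply Subtype.ext
        exact hh g (rs θ hQ g) rfl
      rw [mul_assoc, ← this]
      group
    · rintro rfl g g' hg
      have e : g' = rs θ hQ g := Subtype.ext hg
      subst e
      have : rs θ hQ * ((rs θ hQ)⁻¹ * γ * rs θ hQ) = γ * rs θ hQ := by group
      have h2 := congrArg (fun α : MulAut Q => ((α g : Q) : GU K)) this
      exact h2
  constructor
  · intro hc γ
    rw [hc γ]
    constructor
    · rintro ⟨δ, hδ, h2⟩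
      rw [← (key γ δ).1 h2]; exact hδ
    · intro h2
      exact ⟨_, h2, (key γ _).2 rfl⟩
  · intro hc γ
    rw [hc γ]
    constructor
    · intro h2
      exact ⟨_, h2, (key γ _).2 rfl⟩
    · rintro ⟨δ, hδ, h2⟩
      rw [← (key γ δ).1 h2]; exact hδ

theorem conjOn_of {Q : Subgroup (GU K)} (θ : MulAut (GU K)) (hQ : ∀ g, g ∈ Q ↔ θ g ∈ Q) (X X' : Set (MulAut Q))
    (h1 : ∀ x ∈ X, rs θ hQ * x * (rs θ hQ)⁻¹ ∈ Subgroup.closure X')
    (h2 : ∀ x ∈ X', (rs θ hQ)⁻¹ * x * rs θ hQ ∈ Subgroup.closure X) :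
    ConjOn θ (Subgroup.closure X) (Subgroup.closure X') := by
  rw [conjOn_iff θ hQ]
  have e1 : Subgroup.closure X ≤ (Subgroup.closure X').comap (MulAut.conj (rs θ hQ)).toMonoidHom := by
    rw [Subgroup.closure_le]
    intro x hx
    exact h1 x hx
  have e2 : Subgroup.closure X' ≤ (Subgroup.closure X).comap (MulAut.conj (rs θ hQ)⁻¹).toMonoidHom := by
    rw [Subgroup.closure_le]
    intro x hx
    have h3 := h2 x hx
    show (rs θ hQ)⁻¹ * x * (rs θ hQ)⁻¹⁻¹ ∈ Subgroup.closure X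
    rwa [inv_inv]
  intro γ
  constructor
  · intro h
    have := e2 h
    have h3 : (rs θ hQ)⁻¹ * γ * (rs θ hQ)⁻¹⁻¹ ∈ Subgroup.closure X := this
    rwa [inv_inv] at h3
  · intro h
    have h3 : rs θ hQ * ((rs θ hQ)⁻¹ * γ * rs θ hQ) * (rs θ hQ)⁻¹ ∈ Subgroup.closure X' := e1 h
    have e : rs θ hQ * ((rs θ hQ)⁻¹ * γ * rs θ hQ) * (rs θ hQ)⁻¹ = γ := by group
    rwa [e] at h3

/-- `Aut_S(Q)` is normalized by the restrictions of the automorphisms of `S` -/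
theorem rs_conj {Q : Subgroup (GU K)} [Q.Normal] (θ : MulAut (GU K)) (hQ : ∀ g, g ∈ Q ↔ θ g ∈ Q) (x : GU K) :
    rs θ hQ * MulAut.conjNormal x * (rs θ hQ)⁻¹ = MulAut.conjNormal (θ x) := by
  rw [mul_inv_eq_iff_eq_mul]
  refine MulEquiv.ext fun g => ?_
  apply Subtype.ext
  show θ ((MulAut.conjNormal x g : Q) : GU K) = ((MulAut.conjNormal (θ x) (rs θ hQ g) : Q) : GU K)
  rw [MulAut.conjNormal_apply, MulAut.conjNormal_apply, rs_apply]
  simp

theorem rs_conj' {Q : Subgroup (GU K)} [Q.Normal] (θ : MulAut (GU K)) (hQ : ∀ g, g ∈ Q ↔ θ g ∈ Q) (x : GU K) :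
    (rs θ hQ)⁻¹ * MulAut.conjNormal x * rs θ hQ = MulAut.conjNormal (θ.symm x) := by
  have := rs_conj θ hQ (θ.symm x)
  rw [MulEquiv.apply_symm_apply] at this
  rw [← this]
  group

theorem aut_conj {Q : Subgroup (GU K)} [Q.Normal] (θ : MulAut (GU K)) (hQ : ∀ g, g ∈ Q ↔ θ g ∈ Q) {α : MulAut Q}
    (h : α ∈ autInducedBy ⊤ Q) : rs θ hQ * α * (rs θ hQ)⁻¹ ∈ autInducedBy ⊤ Q := by
  obtain ⟨x, rfl⟩ := (mem_aut_iff Q _).1 h
  rw [rs_conj]
  exact conj_mem_aut Q _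

theorem aut_conj' {Q : Subgroup (GU K)} [Q.Normal] (θ : MulAut (GU K)) (hQ : ∀ g, g ∈ Q ↔ θ g ∈ Q) {α : MulAut Q}
    (h : α ∈ autInducedBy ⊤ Q) : (rs θ hQ)⁻¹ * α * rs θ hQ ∈ autInducedBy ⊤ Q := by
  obtain ⟨x, rfl⟩ := (mem_aut_iff Q _).1 h
  rw [rs_conj']
  exact conj_mem_aut Q _

instance Qa_normal : (Qa K).Normal := by
  refine ⟨fun n hn g => ?_⟩
  have h1 : n.a = 0 := hn
  show (g * n * g⁻¹).a = 0
  simp [h1]

instance Qb_normal : (Qb K).Normal := by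
  refine ⟨fun n hn g => ?_⟩
  have h1 : n.b = 0 := hn
  show (g * n * g⁻¹).b = 0
  simp [h1]

/-- automorphisms of `GU K` from automorphisms of the model -/
noncomputable def mkA (h : HypG K 2 1) (t t' : B6 → B6) (h1 : ∀ x y, t (x * y) = t x * t y) (h2 : ∀ x, t (t' x) = x)
    (h3 : ∀ x, t' (t x) = x) : MulAut (GU K) where
  toFun g := dec (t ((dE h).symm g))
  invFun g := dec (t' ((dE h).symm g))
  left_inv g := by
    show dec (t' ((dE h).symm (dec (t ((dE h).symm g))))) = g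
    rw [← dE_apply h (t _), Equiv.symm_apply_apply, h3, ← dE_apply h, Equiv.apply_symm_apply]
  right_inv g := by
    show dec (t ((dE h).symm (dec (t' ((dE h).symm g))))) = g
    rw [← dE_apply h (t' _), Equiv.symm_apply_apply, h2, ← dE_apply h, Equiv.apply_symm_apply]
  map_mul' g g' := by
    obtain ⟨x, rfl⟩ := (dE h).surjective g
    obtain ⟨y, rfl⟩ := (dE h).surjective g'
    rw [dE_apply, dE_apply, ← dec_mul h, ← dE_apply h x, ← dE_apply h y, ← dE_apply h (x * y), Equiv.symm_apply_apply,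
      Equiv.symm_apply_apply, Equiv.symm_apply_apply, h1, dec_mul h]

theorem mkA_apply (h : HypG K 2 1) {t t' : B6 → B6} (h1 : ∀ x y, t (x * y) = t x * t y) (h2 : ∀ x, t (t' x) = x)
    (h3 : ∀ x, t' (t x) = x) (x : B6) : mkA h t t' h1 h2 h3 (dec x) = dec (t x) := by
  show dec (t ((dE h).symm (dec x))) = _
  rw [← dE_apply h x, Equiv.symm_apply_apply]

end

end Cfsg.Agent.H505.GT
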