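import Cfsg.Agent.H505.GT.Th

/-!
# S5211 (`q = 2`): the automizers of `Q_b` (`StGb2`)
-/

set_option autoImplicit false

namespace Cfsg.Agent.H505.GT

open Cfsg Cfsg.FusionSystem Cfsg.Agent.H756.PU Cfsg.Agent.H779.G2

universe u

open B5

theorem cj_cen (g z : B5) (hz : z = g5 ∨ z = g6 ∨ z = g56) : cj g z = z := by
  rcases g with ⟨a, c, d, e, f⟩
  rcases hz with rfl | rfl | rfl <;> cases a <;> cases c <;> cases d <;> cases e <;> cases f <;> rfl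

theorem inn_cj (g : B5) : inn (cj g g1) (cj g g3) (cj g g4) = true := by
  rcases g with ⟨a, c, d, e, f⟩
  cases a <;> cases c <;> cases d <;> cases e <;> cases f <;> decide +kernel

section
variable {K : Type u} [Field K] (h : HypG K 2 1)

/-- acts trivially on the center -/
def KerC (γ : MulAut (Qb K)) : Prop := vb h γ g5 = g5 ∧ vb h γ g6 = g6

theorem ml56 : ml g5 g6 = g56 := rfl

theorem KerC.cen {γ : MulAut (Qb K)} (hγ : KerC h γ) {z : B5} (hz : z = g5 ∨ z = g6 ∨ z = g56) : vb h γ z = z := by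
  rcases hz with rfl | rfl | rfl
  · exact hγ.1
  · exact hγ.2
  · rw [← ml56, vb_ml, hγ.1, hγ.2]

theorem KerC.pow_four {γ : MulAut (Qb K)} (hγ : KerC h γ) : γ ^ 4 = 1 := by
  have k0 := kerCheck_eq
  rw [kerCheck, all_iff] at k0
  have k1 := k0 (vb h γ g1)
  rw [vb_ni1, Bool.not_true, Bool.false_or, all_iff] at k1
  have k4 := k1 (vb h γ g4)
  rw [vb_ni4, ← vb_cm, ← g5_eq, hγ.1, Bool.not_true, (bq_iff g5 g5).2 rfl, Bool.not_true, Bool.false_or, Bool.false_or,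
    all_iff] at k4
  have k3 := k4 (vb h γ g3)
  rw [vb_ni3, ← vb_cm, ← g6_eq, hγ.2, ← vb_cm, ← g56_eq, hγ.cen h (z := g56) (Or.inr (Or.inr rfl)), Bool.not_true,
    (bq_iff g6 g6).2 rfl, (bq_iff g56 g56).2 rfl, Bool.not_true, Bool.false_or, Bool.false_or, Bool.false_or] at k3
  have e : F (vb h γ g1) (vb h γ g3) (vb h γ g4) g5 g6 = vb h γ := by
    funext x
    rw [vb_F h γ x, hγ.1, hγ.2]
  simp only [e, Bool.and_eq_true, bq_iff] at k3
  obtain ⟨⟨q1, q3⟩, q4⟩ := k3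
  have e4 : ∀ x, vb h (γ ^ 4) x = vb h γ (vb h γ (vb h γ (vb h γ x))) := by
    intro x
    rw [show γ ^ 4 = γ * (γ * (γ * γ)) by rw [pow_succ', pow_succ', pow_two], vb_mul, vb_mul, vb_mul]
  have e1 : ∀ x, vb h (1 : MulAut (Qb K)) x = x := fun x => vb_eq h rfl
  apply vb_ext h
  · rw [e4, q1, e1]
  · rw [e4, q3, e1]
  · rw [e4, q4, e1]

theorem vb_inv (γ : MulAut (Qb K)) (x : B5) : vb h γ⁻¹ (vb h γ x) = x := by
  rw [← vb_mul, inv_mul_cancel]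
  exact vb_eq h rfl

/-- `x₂` acts as `c2` -/
noncomputable def C2 : MulAut (Qb K) := MulAut.conjNormal (dec y2 : GU K)

theorem C2_mem : (C2 : MulAut (Qb K)) ∈ autInducedBy ⊤ (Qb K) := conj_mem_aut _ _

theorem vb_C2 (x : B5) : vb h C2 x = c2 x := vb_c2 h x

theorem KerC.conj {γ : MulAut (Qb K)} (hγ : KerC h γ) (g : MulAut (Qb K)) : KerC h (g⁻¹ * γ * g) := by
  constructor
  · rw [vb_mul, vb_mul, hγ.cen h (vb_cen h g (Or.inl rfl)), vb_inv]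
  · rw [vb_mul, vb_mul, hγ.cen h (vb_cen h g (Or.inr rfl)), vb_inv]

/-- the elements of `Γ` acting trivially on the center -/
def NN (Γ : Subgroup (MulAut (Qb K))) : Subgroup (MulAut (Qb K)) where
  carrier := {γ | γ ∈ Γ ∧ KerC h γ}
  one_mem' := ⟨one_mem _, vb_eq h rfl, vb_eq h rfl⟩
  mul_mem' := by
    rintro γ δ ⟨hγ, k1, k2⟩ ⟨hδ, k3, k4⟩
    exact ⟨mul_mem hγ hδ, by rw [vb_mul, k3, k1], by rw [vb_mul, k4, k2]⟩
  inv_mem' := by
    rintro γ ⟨hγ, k1, k2⟩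
    refine ⟨inv_mem hγ, ?_, ?_⟩
    · conv_lhs => rw [← k1]
      exact vb_inv h γ _
    · conv_lhs => rw [← k2]
      exact vb_inv h γ _

theorem NN_le {Γ : Subgroup (MulAut (Qb K))} (hP : Par2 Γ) {γ : MulAut (Qb K)} (hγ : γ ∈ Γ) (hk : KerC h γ) :
    γ ∈ autInducedBy ⊤ (Qb K) := by
  have hp : IsPGroup 2 (NN h Γ) := by
    rintro ⟨γ, hγ⟩
    refine ⟨2, ?_⟩
    apply Subtype.ext
    exact hγ.2.pow_four h
  obtain ⟨g, hg, hx⟩ := hP.syl (NN h Γ) (fun _ h => h.1) hp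
  have h1 : g⁻¹ * γ * g ∈ NN h Γ := ⟨mul_mem (mul_mem (inv_mem hg) hγ) hg, hk.conj h g⟩
  have h2 := hx _ h1
  have e : g * (g⁻¹ * γ * g) * g⁻¹ = γ := by group
  rwa [e] at h2

theorem inner_of_ker {γ : MulAut (Qb K)} (hγ : γ ∈ autInducedBy ⊤ (Qb K)) (hk : KerC h γ) :
    ∃ g : B5, γ = MulAut.conjNormal ((dB g : Qb K) : GU K) := by
  obtain ⟨x, rfl⟩ := (mem_aut_iff _ _).1 hγ
  obtain ⟨y, rfl⟩ := dec_surj h x
  have h1 : (MulAut.conjNormal (dec y : GU K) : MulAut (Qb K)) (dB g5) = dB g5 := by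
    rw [← vb_spec h, hk.1]
  have h2 := congrArg (fun z : Qb K => (z : GU K)) h1
  simp only [MulAut.conjNormal_apply, mul_inv_eq_iff_eq_mul] at h2
  rw [dB_coe, ← dec_mul h, ← dec_mul h] at h2
  have h3 := congrArg B6.f (dec_inj h2)
  have hb : y.b = false := by
    rcases y with ⟨a, b, c, d, e, f⟩
    revert h3
    clear * -
    revert a b c d e f
    decide
  obtain ⟨g, rfl⟩ := io_surj hb
  exact ⟨g, rfl⟩

/-- the existence of the good element -/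
theorem exists_good {Γ : Subgroup (MulAut (Qb K))} (hP : Par2 Γ) : ∃ γ ∈ Γ, vb h γ g5 = g56 ∧ vb h γ g6 = g5 := by
  have hn : ¬ Γ ≤ autInducedBy ⊤ (Qb K) := by
    intro hle
    exact hP.nn fun γ hγ x hx => mul_mem (mul_mem (hle hγ) hx) (inv_mem (hle hγ))
  obtain ⟨δ, hδ, hδP⟩ := SetLike.not_le_iff_exists.1 hn
  have hC : C2 ∈ Γ := hP.indu C2_mem
  have v5 : vb h C2 g5 = g56 := vb_C2 h _
  have v6 : vb h C2 g6 = g6 := vb_C2 h _
  have v56 : vb h C2 g56 = g5 := vb_C2 h _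
  rcases pi_cases h δ with ⟨a, b⟩ | ⟨a, b⟩ | ⟨a, b⟩ | ⟨a, b⟩ | ⟨a, b⟩ | ⟨a, b⟩
  · exact absurd (NN_le h hP hδ ⟨a, b⟩) hδP
  · exfalso
    apply hδP
    have h1 : δ * C2 ∈ autInducedBy ⊤ (Qb K) := by
      refine NN_le h hP (mul_mem hδ hC) ⟨?_, ?_⟩
      · rw [vb_mul, v5, ← ml56, vb_ml, a, b]; rfl
      · rw [vb_mul, v6, b]
    have := mul_mem h1 (inv_mem (C2_mem (K := K)))
    rwa [mul_inv_cancel_right] at this
  · exact ⟨δ, hδ, a, b⟩
  · refine ⟨δ * δ, mul_mem hδ hδ, ?_, ?_⟩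
    · rw [vb_mul, a, b]
    · rw [vb_mul, b, ← ml56, vb_ml, a, b]; rfl
  · refine ⟨δ * C2, mul_mem hδ hC, ?_, ?_⟩
    · rw [vb_mul, v5, ← ml56, vb_ml, a, b]; rfl
    · rw [vb_mul, v6, b]
  · refine ⟨C2 * δ, mul_mem hC hδ, ?_, ?_⟩
    · rw [vb_mul, a, v5]
    · rw [vb_mul, b, v56]

theorem vb56 {γ : MulAut (Qb K)} (h5 : vb h γ g5 = g56) (h6 : vb h γ g6 = g5) : vb h γ g56 = g6 := by
  rw [← ml56, vb_ml, h5, h6]; rfl

theorem eq_closure {Γ : Subgroup (MulAut (Qb K))} (hP : Par2 Γ) {γ : MulAut (Qb K)} (hγ : γ ∈ Γ)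
    (h5 : vb h γ g5 = g56) (h6 : vb h γ g6 = g5) :
    Γ = Subgroup.closure ((autInducedBy ⊤ (Qb K) : Set (MulAut (Qb K))) ∪ {γ}) := by
  have v5 : vb h C2 g5 = g56 := vb_C2 h _
  have v6 : vb h C2 g6 = g6 := vb_C2 h _
  have v56 : vb h C2 g56 = g5 := vb_C2 h _
  have h56 := vb56 h h5 h6
  set L := Subgroup.closure ((autInducedBy ⊤ (Qb K) : Set (MulAut (Qb K))) ∪ {γ}) with hL
  have hPL : autInducedBy ⊤ (Qb K) ≤ L := fun x hx => Subgroup.subset_closure (Or.inl hx)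
  have hγL : γ ∈ L := Subgroup.subset_closure (Or.inr rfl)
  have hCL : C2 ∈ L := hPL C2_mem
  have hLΓ : L ≤ Γ := by
    rw [hL, Subgroup.closure_le]
    rintro x (hx | hx)
    · exact hP.indu hx
    · rw [Set.mem_singleton_iff.1 hx]; exact hγ
  have key : ∀ δ ∈ Γ, ∀ w ∈ L, KerC h (w * δ) → δ ∈ L := by
    intro δ hδ w hw hk
    have := hPL (NN_le h hP (mul_mem (hLΓ hw) hδ) hk)
    have h2 := mul_mem (inv_mem hw) this
    rwa [inv_mul_cancel_left] at h2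
  refine le_antisymm ?_ hLΓ
  intro δ hδ
  rcases pi_cases h δ with ⟨a, b⟩ | ⟨a, b⟩ | ⟨a, b⟩ | ⟨a, b⟩ | ⟨a, b⟩ | ⟨a, b⟩
  · exact hPL (NN_le h hP hδ ⟨a, b⟩)
  · -- δ : 5 → 56, 6 → 6
    exact key δ hδ C2 hCL ⟨by rw [vb_mul, a, v56], by rw [vb_mul, b, v6]⟩
  · -- δ : 5 → 56, 6 → 5; w : 56 → 5, 5 → 6 : γ²
    exact key δ hδ (γ * γ) (mul_mem hγL hγL) ⟨by rw [vb_mul, vb_mul, a, h56, h6], by rw [vb_mul, vb_mul, b, h5, h56]⟩
  · -- δ : 5 → 6, 6 → 56 ; w = γ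
    exact key δ hδ γ hγL ⟨by rw [vb_mul, a, h6], by rw [vb_mul, b, h56]⟩
  · -- δ : 5 → 6, 6 → 5; w : 6 → 5, 5 → 6
    exact key δ hδ (γ * C2) (mul_mem hγL hCL) ⟨by rw [vb_mul, vb_mul, a, v6, h6], by rw [vb_mul, vb_mul, b, v5, h56]⟩
  · -- δ : 5 → 5, 6 → 56 ; w : 5 → 5, 56 → 6
    exact key δ hδ (C2 * γ) (mul_mem hCL hγL) ⟨by rw [vb_mul, vb_mul, a, h5, v56], by rw [vb_mul, vb_mul, b, h56, v6]⟩

theorem gen_eq : (Gen IsWb ⊥ : Subgroup (MulAut (Qb K))) =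
    Subgroup.closure ((autInducedBy ⊤ (Qb K) : Set (MulAut (Qb K))) ∪ {ww h}) := by
  apply le_antisymm
  · rw [Gen, Subgroup.closure_le]
    rintro x ((hx | hx) | ⟨d, hd, hx⟩)
    · exact Subgroup.subset_closure (Or.inl hx)
    · exact Subgroup.subset_closure (Or.inr (isWb_eq h hx))
    · have hd1 : d = 1 := Subgroup.mem_bot.1 hd
      have : x = 1 := by
        refine MulEquiv.ext fun g => Subtype.ext ?_
        rw [hx g, hd1]; rfl
      rw [this]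
      exact one_mem _
  · rw [Subgroup.closure_le]
    rintro x (hx | hx)
    · exact Subgroup.subset_closure (Or.inl (Or.inl hx))
    · rw [Set.mem_singleton_iff.1 hx]
      exact Subgroup.subset_closure (Or.inl (Or.inr (ww_isWb h)))

/-- the outcome of the finite verification -/
theorem main_check {γ : MulAut (Qb K)} (h5 : vb h γ g5 = g56) (h6 : vb h γ g6 = g5)
    (i1 : ∃ g : B5, C2 * γ * C2 * γ = MulAut.conjNormal ((dB g : Qb K) : GU K))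
    (i2 : ∃ g : B5, γ * γ * γ = MulAut.conjNormal ((dB g : Qb K) : GU K)) :
    (∃ (t : Bool) (g : B5), rs (Th h false t) (Th_Qb h false t) * γ =
      MulAut.conjNormal ((dB g : Qb K) : GU K) * ww h * C2 * rs (Th h false t) (Th_Qb h false t)) ∨
    (∃ (t : Bool) (g : B5), rs (Th h true t) (Th_Qb h true t) * γ =
      MulAut.conjNormal ((dB g : Qb K) : GU K) * C2 * ww h * rs (Th h true t) (Th_Qb h true t)) := by
  have h56 := vb56 h h5 h6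
  have k0 := mainCheck_eq
  rw [mainCheck, all_iff] at k0
  have k1 := k0 (vb h γ g1)
  rw [vb_ni1, Bool.not_true, Bool.false_or, all_iff] at k1
  have k4 := k1 (vb h γ g4)
  rw [vb_ni4, ← vb_cm, ← g5_eq, h5, Bool.not_true, (bq_iff g56 g56).2 rfl, Bool.not_true, Bool.false_or, Bool.false_or,
    all_iff] at k4
  have k3 := k4 (vb h γ g3)
  rw [vb_ni3, ← vb_cm, ← g6_eq, h6, ← vb_cm, ← g56_eq, h56, Bool.not_true,
    (bq_iff g5 g5).2 rfl, (bq_iff g6 g6).2 rfl, Bool.not_true, Bool.false_or, Bool.false_or, Bool.false_or] at k3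
  have e : F (vb h γ g1) (vb h γ g3) (vb h γ g4) g56 g5 = vb h γ := by
    funext x
    rw [vb_F h γ x, h5, h6]
  simp only [e] at k3
  obtain ⟨u, hu⟩ := i1
  obtain ⟨v, hv⟩ := i2
  have r1 : ∀ x, c2 (vb h γ (c2 (vb h γ x))) = cj u x := by
    intro x
    rw [← vb_conj h, ← hu, vb_mul, vb_mul, vb_mul, vb_C2, vb_C2]
  have r2 : ∀ x, vb h γ (vb h γ (vb h γ x)) = cj v x := by
    intro x
    rw [← vb_conj h, ← hv, vb_mul, vb_mul]
  rw [r1, r1, r1, r2, r2, r2, inn_cj, inn_cj, Bool.not_true, Bool.false_or, Bool.false_or, Bool.or_eq_true] at k3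
  rcases k3 with k3 | k3
  · left
    rw [List.any_eq_true] at k3
    obtain ⟨t, -, k⟩ := k3
    obtain ⟨g, k⟩ := any8_imp _ k
    simp only [Bool.and_eq_true, bq_iff] at k
    obtain ⟨⟨q1, q3⟩, q4⟩ := k
    refine ⟨t, g, vb_ext h ?_ ?_ ?_⟩
    · rw [vb_mul, vb_mul, vb_mul, vb_mul, vb_Th, vb_Th, vb_conj, vb_ww, vb_C2, q1]
    · rw [vb_mul, vb_mul, vb_mul, vb_mul, vb_Th, vb_Th, vb_conj, vb_ww, vb_C2, q3]
    · rw [vb_mul, vb_mul, vb_mul, vb_mul, vb_Th, vb_Th, vb_conj, vb_ww, vb_C2, q4]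
  · right
    rw [List.any_eq_true] at k3
    obtain ⟨t, -, k⟩ := k3
    obtain ⟨g, k⟩ := any8_imp _ k
    simp only [Bool.and_eq_true, bq_iff] at k
    obtain ⟨⟨q1, q3⟩, q4⟩ := k
    refine ⟨t, g, vb_ext h ?_ ?_ ?_⟩
    · rw [vb_mul, vb_mul, vb_mul, vb_mul, vb_Th, vb_Th, vb_conj, vb_ww, vb_C2, q1]
    · rw [vb_mul, vb_mul, vb_mul, vb_mul, vb_Th, vb_Th, vb_conj, vb_ww, vb_C2, q3]
    · rw [vb_mul, vb_mul, vb_mul, vb_mul, vb_Th, vb_Th, vb_conj, vb_ww, vb_C2, q4]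

/-- the conclusion from a conjugation formula -/
theorem concl (θ : MulAut (GU K)) (hQ : ∀ g, g ∈ Qb K ↔ θ g ∈ Qb K) {γ p q : MulAut (Qb K)}
    (hp : p ∈ autInducedBy ⊤ (Qb K)) (hq : q ∈ autInducedBy ⊤ (Qb K))
    (hh : rs θ hQ * γ * (rs θ hQ)⁻¹ = p * ww h * q) :
    ConjOn θ (Subgroup.closure ((autInducedBy ⊤ (Qb K) : Set (MulAut (Qb K))) ∪ {γ})) (Gen IsWb ⊥) := by
  rw [gen_eq h]
  apply conjOn_of θ hQ
  · rintro x (hx | hx)
    · exact Subgroup.subset_closure (Or.inl (aut_conj θ hQ hx))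
    · rw [Set.mem_singleton_iff.1 hx, hh]
      exact mul_mem (mul_mem (Subgroup.subset_closure (Or.inl hp)) (Subgroup.subset_closure (Or.inr rfl)))
        (Subgroup.subset_closure (Or.inl hq))
  · rintro x (hx | hx)
    · exact Subgroup.subset_closure (Or.inl (aut_conj' θ hQ hx))
    · rw [Set.mem_singleton_iff.1 hx]
      have e : (rs θ hQ)⁻¹ * ww h * rs θ hQ = ((rs θ hQ)⁻¹ * p⁻¹ * rs θ hQ) * γ * ((rs θ hQ)⁻¹ * q⁻¹ * rs θ hQ) := by
        have e1 : ww h = p⁻¹ * (rs θ hQ * γ * (rs θ hQ)⁻¹) * q⁻¹ := by rw [hh]; group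
        rw [e1]; group
      rw [e]
      exact mul_mem (mul_mem (Subgroup.subset_closure (Or.inl (aut_conj' θ hQ (inv_mem hp))))
        (Subgroup.subset_closure (Or.inr rfl))) (Subgroup.subset_closure (Or.inl (aut_conj' θ hQ (inv_mem hq))))

end

theorem stGb2 : StGb2.{u} := by
  intro K _ h Γ hP
  obtain ⟨γ, hγ, h5, h6⟩ := exists_good h hP
  have h56 := vb56 h h5 h6
  rw [eq_closure h hP hγ h5 h6]
  have hC : C2 ∈ Γ := hP.indu C2_mem
  have v5 : vb h C2 g5 = g56 := vb_C2 h _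
  have v6 : vb h C2 g6 = g6 := vb_C2 h _
  have v56 : vb h C2 g56 = g5 := vb_C2 h _
  have i1 : ∃ g : B5, C2 * γ * C2 * γ = MulAut.conjNormal ((dB g : Qb K) : GU K) := by
    have hk : KerC h (C2 * γ * C2 * γ) :=
      ⟨by rw [vb_mul, vb_mul, vb_mul, h5, v56, h5, v56], by rw [vb_mul, vb_mul, vb_mul, h6, v5, h56, v6]⟩
    exact inner_of_ker h (NN_le h hP (mul_mem (mul_mem (mul_mem hC hγ) hC) hγ) hk) hk
  have i2 : ∃ g : B5, γ * γ * γ = MulAut.conjNormal ((dB g : Qb K) : GU K) := by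
    have hk : KerC h (γ * γ * γ) := ⟨by rw [vb_mul, vb_mul, h5, h56, h6], by rw [vb_mul, vb_mul, h6, h5, h56]⟩
    exact inner_of_ker h (NN_le h hP (mul_mem (mul_mem hγ hγ) hγ) hk) hk
  rcases main_check h h5 h6 i1 i2 with ⟨t, g, e⟩ | ⟨t, g, e⟩
  · refine ⟨Th h false t, concl h _ (Th_Qb h false t) (p := MulAut.conjNormal ((dB g : Qb K) : GU K))
      (conj_mem_aut _ _) C2_mem ?_⟩
    rw [e, mul_inv_cancel_right]
  · refine ⟨Th h true t, concl h _ (Th_Qb h true t) (p := MulAut.conjNormal ((dB g : Qb K) : GU K) * C2)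
      (mul_mem (conj_mem_aut _ _) C2_mem) (one_mem _) ?_⟩
    rw [e, mul_inv_cancel_right, mul_one]

end Cfsg.Agent.H505.GT
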