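import Cfsg.Agent.H505.GT.Gb2
import Cfsg.Agent.H780.GT2.Rows

/-!
# S5211 (`q = 2`): `StGbu`
-/

set_option autoImplicit false

namespace Cfsg.Agent.H505.GT

open Cfsg Cfsg.FusionSystem Cfsg.Agent.H756.PU Cfsg.Agent.H779.G2

universe u

open B5

/-- `Γ` is the standard automizer as soon as it contains a standard Weyl element -/
theorem eq_gen_of_isWb {K : Type u} [Field K] (h : HypG K 2 1) {Γ : Subgroup (MulAut (Qb K))} (hP : Par2 Γ)
    (hw : ∃ γ ∈ Γ, IsWb γ) : Γ = Gen IsWb ⊥ := by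
  obtain ⟨w, hwΓ, hw⟩ := hw
  have hw' := isWb_eq h hw
  subst hw'
  have hC : C2 ∈ Γ := hP.indu C2_mem
  have v5 : vb h (ww h * C2) g5 = g56 := by rw [vb_mul, vb_C2, vb_ww]; rfl
  have v6 : vb h (ww h * C2) g6 = g5 := by rw [vb_mul, vb_C2, vb_ww]; rfl
  rw [gen_eq h]
  apply le_antisymm
  · rw [eq_closure h hP (mul_mem hwΓ hC) v5 v6, Subgroup.closure_le]
    rintro x (hx | hx)
    · exact Subgroup.subset_closure (Or.inl hx)
    · rw [Set.mem_singleton_iff.1 hx]
      exact mul_mem (Subgroup.subset_closure (Or.inr rfl)) (Subgroup.subset_closure (Or.inl C2_mem))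
  · rw [Subgroup.closure_le]
    rintro x (hx | hx)
    · exact hP.indu hx
    · rw [Set.mem_singleton_iff.1 hx]; exact hwΓ

theorem hypZ : HypG (ZMod 2) 2 1 where
  pp := by norm_num
  hn := le_refl _
  fin := inferInstance
  card := by simp
  char := inferInstance

theorem stGbu : Cfsg.Agent.H780.GT2.StGbu := fun _ hP hw => eq_gen_of_isWb hypZ hP hw

end Cfsg.Agent.H505.GT
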