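import Cfsg.Agent.H779.G2.Stmts4

/-!
# S5211 (`q = 2`): a Boolean model of `GU K`, `|K| = 2`
-/

set_option autoImplicit false

namespace Cfsg.Agent.H505.GT

open Cfsg Cfsg.FusionSystem Cfsg.Agent.H756.PU Cfsg.Agent.H779.G2

universe u

/-- the Boolean model of `GU K` -/
@[ext] structure B6 where
  a : Bool
  b : Bool
  c : Bool
  d : Bool
  e : Bool
  f : Bool

namespace B6

instance : Mul B6 := ⟨fun x y =>
  { a := x.a ^^ y.a
    b := x.b ^^ y.b
    c := x.c ^^ y.c ^^ (x.b && y.a)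
    d := x.d ^^ y.d ^^ (x.b && y.a)
    e := x.e ^^ y.e ^^ ((x.d ^^ x.c ^^ x.b) && y.a)
    f := x.f ^^ y.f ^^ (x.d && y.c) ^^ (x.e && y.b) ^^ (x.c && y.a) ^^ (x.d && y.a && y.b) ^^ (x.b && x.c && y.a)
      ^^ (x.b && y.a && y.c) ^^ (x.c && y.a && y.b) ^^ (x.b && y.a && y.b) ^^ (x.b && y.a) }⟩

end B6

section
variable {K : Type u} [Field K]

/-- a Boolean as an element of `K` -/
def bt (x : Bool) : K := cond x 1 0

@[simp] theorem bt_true : (bt true : K) = 1 := rfl
@[simp] theorem bt_false : (bt false : K) = 0 := rfl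

theorem two_eq (h : HypG K 2 1) : (2 : K) = 0 := by
  have := h.char
  have := CharP.cast_eq_zero K 2
  simpa using this

theorem cases01 (h : HypG K 2 1) (x : K) : x = 0 ∨ x = 1 := by
  have := h.fin
  have := Fintype.ofFinite K
  have hc : Fintype.card K = 2 := by rw [← Nat.card_eq_fintype_card, h.card]; norm_num
  have h1 : x ^ 2 = x := by
    have := FiniteField.pow_card x
    rwa [hc] at this
  have h2 : x * (x - 1) = 0 := by ring_nf; rw [h1]; ring
  rcases mul_eq_zero.1 h2 with h | h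
  · left; exact h
  · right; exact sub_eq_zero.1 h

theorem bt_surj (h : HypG K 2 1) (x : K) : ∃ y, bt y = x := by
  rcases cases01 h x with h | h
  · exact ⟨false, by simp [h]⟩
  · exact ⟨true, by simp [h]⟩

theorem bt_inj {x y : Bool} (h : (bt x : K) = bt y) : x = y := by
  cases x <;> cases y <;> simp_all

theorem bt_xor (h : HypG K 2 1) (x y : Bool) : (bt (x ^^ y) : K) = bt x + bt y := by
  have h2 := two_eq h
  cases x <;> cases y <;> simp [← h2]
  norm_num

theorem bt_and (x y : Bool) : (bt (x && y) : K) = bt x * bt y := by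
  cases x <;> cases y <;> simp

theorem bt_sq (x : Bool) : (bt x : K) ^ 2 = bt x := by cases x <;> simp
theorem bt_cu (x : Bool) : (bt x : K) ^ 3 = bt x := by cases x <;> simp

/-- decoding -/
def dec (x : B6) : GU K := ⟨bt x.a, bt x.b, bt x.c, bt x.d, bt x.e, bt x.f⟩

theorem dec_mul (h : HypG K 2 1) (x y : B6) : (dec (x * y) : GU K) = dec x * dec y := by
  have h2 := two_eq h
  ext
  · exact bt_xor h _ _
  · exact bt_xor h _ _
  · show (bt (x.c ^^ y.c ^^ (x.b && y.a)) : K) = bt x.c + bt y.c + bt x.b * bt y.a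
    simp only [bt_xor h, bt_and]
  · show (bt (x.d ^^ y.d ^^ (x.b && y.a)) : K) = bt x.d + bt y.d + 2 * bt x.c * bt y.a + bt x.b * bt y.a ^ 2
    simp only [bt_xor h, bt_and, bt_sq, h2]; ring
  · show (bt (x.e ^^ y.e ^^ ((x.d ^^ x.c ^^ x.b) && y.a)) : K) = bt x.e + bt y.e + 3 * bt x.d * bt y.a + 3 * bt x.c * bt y.a ^ 2 + bt x.b * bt y.a ^ 3
    simp only [bt_xor h, bt_and, bt_sq, bt_cu]
    linear_combination (- bt x.d * bt y.a - bt x.c * bt y.a) * h2
  · show (bt (x.f ^^ y.f ^^ (x.d && y.c) ^^ (x.e && y.b) ^^ (x.c && y.a) ^^ (x.d && y.a && y.b) ^^ (x.b && x.c && y.a)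
      ^^ (x.b && y.a && y.c) ^^ (x.c && y.a && y.b) ^^ (x.b && y.a && y.b) ^^ (x.b && y.a)) : K) =
      bt x.f + bt y.f + 3 * bt x.d * bt y.c - bt x.e * bt y.b + 6 * bt x.c * bt y.a * bt y.c + 3 * bt x.c ^ 2 * bt y.a - 3 * bt x.d * bt y.a * bt y.b
      + 3 * bt x.b * bt x.c * bt y.a ^ 2 + 3 * bt x.b * bt y.a ^ 2 * bt y.c - 3 * bt x.c * bt y.a ^ 2 * bt y.b - bt x.b * bt y.a ^ 3 * bt y.b
      + bt x.b ^ 2 * bt y.a ^ 3
    simp only [bt_xor h, bt_and, bt_sq, bt_cu]
    generalize (bt x.a : K) = xa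
    generalize (bt x.b : K) = xb
    generalize (bt x.c : K) = xc
    generalize (bt x.d : K) = xd
    generalize (bt x.e : K) = xe
    generalize (bt x.f : K) = xf
    generalize (bt y.a : K) = ya
    generalize (bt y.b : K) = yb
    generalize (bt y.c : K) = yc
    generalize (bt y.f : K) = yf
    linear_combination (- xd * yc + xe * yb - 3 * xc * ya * yc - xc * ya + 2 * xd * ya * yb - xb * xc * ya - xb * ya * yc + 2 * xc * ya * yb + xb * ya * yb) * h2

theorem dec_inj {x y : B6} (h : (dec x : GU K) = dec y) : x = y := by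
  have h1 := congrArg GU.a h
  have h2 := congrArg GU.b h
  have h3 := congrArg GU.c h
  have h4 := congrArg GU.d h
  have h5 := congrArg GU.e h
  have h6 := congrArg GU.f h
  ext
  exacts [bt_inj h1, bt_inj h2, bt_inj h3, bt_inj h4, bt_inj h5, bt_inj h6]

theorem dec_surj (h : HypG K 2 1) (g : GU K) : ∃ x, dec x = g := by
  obtain ⟨a, ha⟩ := bt_surj h g.a
  obtain ⟨b, hb⟩ := bt_surj h g.b
  obtain ⟨c, hc⟩ := bt_surj h g.c
  obtain ⟨d, hd⟩ := bt_surj h g.d
  obtain ⟨e, he⟩ := bt_surj h g.e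
  obtain ⟨f, hf⟩ := bt_surj h g.f
  refine ⟨⟨a, b, c, d, e, f⟩, ?_⟩
  ext <;> simp [dec, *]

/-- the bijection -/
noncomputable def dE (h : HypG K 2 1) : B6 ≃ GU K := Equiv.ofBijective dec ⟨fun _ _ h => dec_inj h, dec_surj h⟩

theorem dE_apply (h : HypG K 2 1) (x : B6) : dE h x = dec x := rfl

end

end Cfsg.Agent.H505.GT
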