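import Cfsg.Agent.H505.GT.Gb2

/-!
# S5211 (`q = 2`): the swap (`StSw2`)
-/

set_option autoImplicit false

namespace Cfsg.Agent.H505.GT

open Cfsg Cfsg.FusionSystem Cfsg.Agent.H756.PU Cfsg.Agent.H779.G2

universe u

open B5

section
variable {K : Type u} [Field K]

/-- the coordinates on `Q_a / Z₁` -/
def cv (g : Qa K) : Fin 4 → K := ![(g : GU K).b, (g : GU K).c, (g : GU K).d, (g : GU K).e]

theorem linA_iff (M : Matrix (Fin 4) (Fin 4) K) (γ : MulAut (Qa K)) : LinA M γ ↔ ∀ g, cv (γ g) = M.mulVec (cv g) := Iff.rfl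

theorem linA_mul {M N : Matrix (Fin 4) (Fin 4) K} {γ δ : MulAut (Qa K)} (h1 : LinA M γ) (h2 : LinA N δ) :
    LinA (M * N) (γ * δ) := by
  rw [linA_iff] at *
  intro g
  rw [← Matrix.mulVec_mulVec, ← h2, ← h1]
  rfl

theorem linA_inv {M N : Matrix (Fin 4) (Fin 4) K} {γ : MulAut (Qa K)} (h1 : LinA M γ) (hN : N * M = 1) :
    LinA N γ⁻¹ := by
  rw [linA_iff] at *
  intro g
  have h2 := h1 (γ⁻¹ g)
  rw [MulAut.apply_inv_self] at h2
  rw [h2, Matrix.mulVec_mulVec, hN, Matrix.one_mulVec]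

theorem cv_ext {g g' : Qa K} (h1 : cv g = cv g') (h2 : (g : GU K).f = (g' : GU K).f) : g = g' := by
  apply Subtype.ext
  ext1
  · have k1 : (g : GU K).a = 0 := g.2
    have k2 : (g' : GU K).a = 0 := g'.2
    rw [k1, k2]
  · exact congrFun h1 0
  · exact congrFun h1 1
  · exact congrFun h1 2
  · exact congrFun h1 3
  · exact h2

/-- elements of `Q_a` -/
def qa (b c d e f : K) : Qa K := ⟨⟨0, b, c, d, e, f⟩, rfl⟩

theorem qa_eq (g : Qa K) : g = qa (g : GU K).b (g : GU K).c (g : GU K).d (g : GU K).e (g : GU K).f :=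
  cv_ext rfl rfl

theorem qa_dec (b c d e f : K) : qa b c d e f = qa b 0 0 0 0 * qa 0 c 0 0 0 * qa 0 0 d 0 0 * qa 0 0 0 e 0 * qa 0 0 0 0 f := by
  apply Subtype.ext
  ext1 <;> simp [qa]

theorem f_mul (g g' : Qa K) : ((g * g' : Qa K) : GU K).f =
    (g : GU K).f + (g' : GU K).f + 3 * (g : GU K).d * (g' : GU K).c - (g : GU K).e * (g' : GU K).b := by
  have k2 : (g' : GU K).a = 0 := g'.2
  rw [Subgroup.coe_mul, GU.mul_f, k2]
  ring

theorem conj_lin (y : GU K) (g : Qa K) (hy : y ∈ Qa K) : cv (MulAut.conjNormal y g) = cv g ∧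
    ((MulAut.conjNormal y g : Qa K) : GU K).f = (g : GU K).f + 3 * y.d * (g : GU K).c - y.e * (g : GU K).b
      - 3 * (g : GU K).d * y.c + (g : GU K).e * y.b := by
  have ha : (g : GU K).a = 0 := g.2
  have hya : y.a = 0 := hy
  set z := (MulAut.conjNormal y g : Qa K) with hz
  have hza : (z : GU K).a = 0 := z.2
  have h1 : (z : GU K) * y = y * g := by
    rw [hz, MulAut.conjNormal_apply]
    group
  have hb := congrArg GU.b h1
  have hc := congrArg GU.c h1
  have hd := congrArg GU.d h1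
  have he := congrArg GU.e h1
  have hf := congrArg GU.f h1
  simp only [GU.mul_b, GU.mul_c, GU.mul_d, GU.mul_e, GU.mul_f, ha, hya] at hb hc hd he hf
  have b1 : (z : GU K).b = (g : GU K).b := by linear_combination hb
  have c1 : (z : GU K).c = (g : GU K).c := by linear_combination hc
  have d1 : (z : GU K).d = (g : GU K).d := by linear_combination hd
  have e1 : (z : GU K).e = (g : GU K).e := by linear_combination he
  refine ⟨?_, ?_⟩
  · rw [cv, cv, b1, c1, d1, e1]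
  · rw [b1, c1, d1, e1] at hf
    linear_combination hf

theorem aut_le_of_lin_one (h : HypG K 2 1) {γ : MulAut (Qa K)} (hγ : LinA 1 γ) : γ ∈ autInducedBy ⊤ (Qa K) := by
  rw [linA_iff] at hγ
  simp only [Matrix.one_mulVec] at hγ
  have h2 := two_eq h
  -- the additive map
  have hφ : ∀ g g' : Qa K, ((γ (g * g') : Qa K) : GU K).f - ((g * g' : Qa K) : GU K).f =
      (((γ g : Qa K) : GU K).f - (g : GU K).f) + (((γ g' : Qa K) : GU K).f - (g' : GU K).f) := by
    intro g g'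
    have b1 : ((γ g' : Qa K) : GU K).b = (g' : GU K).b := congrFun (hγ g') 0
    have c1 : ((γ g' : Qa K) : GU K).c = (g' : GU K).c := congrFun (hγ g') 1
    have d1 : ((γ g : Qa K) : GU K).d = (g : GU K).d := congrFun (hγ g) 2
    have e1 : ((γ g : Qa K) : GU K).e = (g : GU K).e := congrFun (hγ g) 3
    rw [map_mul, f_mul, f_mul, b1, c1, d1, e1]
    ring
  set φ : Qa K → K := fun g => ((γ g : Qa K) : GU K).f - (g : GU K).f with hφd
  have hφm : ∀ g g', φ (g * g') = φ g + φ g' := hφ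
  have hφ1 : φ 1 = 0 := by
    have := hφm 1 1
    rw [mul_one] at this
    linear_combination -this
  have q0 : (qa 0 0 0 0 0 : Qa K) = 1 := rfl
  have p1 : ∀ x : K, φ (qa x 0 0 0 0) = x * φ (qa 1 0 0 0 0) := by
    intro x
    rcases cases01 h x with rfl | rfl
    · rw [q0, hφ1, zero_mul]
    · rw [one_mul]
  have p2 : ∀ x : K, φ (qa 0 x 0 0 0) = x * φ (qa 0 1 0 0 0) := by
    intro x
    rcases cases01 h x with rfl | rfl
    · rw [q0, hφ1, zero_mul]
    · rw [one_mul]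
  have p3 : ∀ x : K, φ (qa 0 0 x 0 0) = x * φ (qa 0 0 1 0 0) := by
    intro x
    rcases cases01 h x with rfl | rfl
    · rw [q0, hφ1, zero_mul]
    · rw [one_mul]
  have p4 : ∀ x : K, φ (qa 0 0 0 x 0) = x * φ (qa 0 0 0 1 0) := by
    intro x
    rcases cases01 h x with rfl | rfl
    · rw [q0, hφ1, zero_mul]
    · rw [one_mul]
  have p5 : ∀ x : K, φ (qa 0 0 0 0 x) = 0 := by
    intro x
    have e1 : (qa 1 0 0 0 0 * qa 0 0 0 x 0 : Qa K) = qa 0 0 0 x 0 * qa 1 0 0 0 0 * qa 0 0 0 0 x := by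
      apply Subtype.ext
      ext1 <;> simp [qa]
    have e2 := congrArg φ e1
    rw [hφm, hφm, hφm] at e2
    linear_combination -e2
  have hall : ∀ g : Qa K, ((γ g : Qa K) : GU K).f = (g : GU K).f + (g : GU K).b * φ (qa 1 0 0 0 0) +
      (g : GU K).c * φ (qa 0 1 0 0 0) + (g : GU K).d * φ (qa 0 0 1 0 0) + (g : GU K).e * φ (qa 0 0 0 1 0) := by
    intro g
    have e1 : φ g = (g : GU K).b * φ (qa 1 0 0 0 0) + (g : GU K).c * φ (qa 0 1 0 0 0) + (g : GU K).d * φ (qa 0 0 1 0 0) +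
        (g : GU K).e * φ (qa 0 0 0 1 0) := by
      conv_lhs => rw [qa_eq g, qa_dec]
      rw [hφm, hφm, hφm, hφm, p1, p2, p3, p4, p5]
      ring
    have e2 : ((γ g : Qa K) : GU K).f = (g : GU K).f + φ g := by rw [hφd]; ring
    rw [e2, e1]; ring
  rw [mem_aut_iff]
  refine ⟨qa (φ (qa 0 0 0 1 0)) (φ (qa 0 0 1 0 0)) (φ (qa 0 1 0 0 0)) (φ (qa 1 0 0 0 0)) 0, ?_⟩
  refine MulEquiv.ext fun g => ?_
  obtain ⟨k1, k2⟩ := conj_lin _ g
    (qa (φ (qa 0 0 0 1 0)) (φ (qa 0 0 1 0 0)) (φ (qa 0 1 0 0 0)) (φ (qa 1 0 0 0 0)) 0 : Qa K).2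
  apply cv_ext
  · rw [k1, hγ]
  · rw [k2, hall]
    show (g : GU K).f + (g : GU K).b * φ (qa 1 0 0 0 0) + (g : GU K).c * φ (qa 0 1 0 0 0) +
      (g : GU K).d * φ (qa 0 0 1 0 0) + (g : GU K).e * φ (qa 0 0 0 1 0) =
      (g : GU K).f + 3 * φ (qa 0 1 0 0 0) * (g : GU K).c - φ (qa 1 0 0 0 0) * (g : GU K).b
      - 3 * (g : GU K).d * φ (qa 0 0 1 0 0) + (g : GU K).e * φ (qa 0 0 0 1 0)
    linear_combination ((g : GU K).b * φ (qa 1 0 0 0 0) - (g : GU K).c * φ (qa 0 1 0 0 0) +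
      2 * (g : GU K).d * φ (qa 0 0 1 0 0)) * h2

/-- the Weyl element of `Q_a` -/
def wa : MulAut (Qa K) where
  toFun g := qa (g : GU K).e (-(g : GU K).d) (g : GU K).c (-(g : GU K).b)
    ((g : GU K).f + (g : GU K).b * (g : GU K).e - 3 * (g : GU K).c * (g : GU K).d)
  invFun g := qa (-(g : GU K).e) (g : GU K).d (-(g : GU K).c) (g : GU K).b
    ((g : GU K).f + (g : GU K).b * (g : GU K).e - 3 * (g : GU K).c * (g : GU K).d)
  left_inv g := by
    refine cv_ext ?_ ?_
    · simp [cv, qa]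
    · simp only [qa]; ring
  right_inv g := by
    refine cv_ext ?_ ?_
    · simp [cv, qa]
    · simp only [qa]; ring
  map_mul' g g' := by
    have ha' : (g' : GU K).a = 0 := g'.2
    apply Subtype.ext
    ext1
    · simp [qa]
    · simp [qa, ha']
    · simp only [qa, Subgroup.coe_mul, GU.mul_d, GU.mul_c, ha']; ring
    · simp only [qa, Subgroup.coe_mul, GU.mul_d, GU.mul_c, ha']; ring
    · simp only [qa, Subgroup.coe_mul, GU.mul_e, GU.mul_b, ha']; ring
    · simp only [qa, Subgroup.coe_mul, GU.mul_f, GU.mul_b, GU.mul_c, GU.mul_d, GU.mul_e, ha']; ring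

theorem wa_isWa : IsWa (wa : MulAut (Qa K)) :=
  ⟨fun _ => rfl, fun _ => rfl, fun _ => rfl, fun _ => rfl, fun _ => rfl⟩

/-- matrix of the Weyl element -/
def Wm : Matrix (Fin 4) (Fin 4) K := !![0, 0, 0, 1; 0, 0, 1, 0; 0, 1, 0, 0; 1, 0, 0, 0]
/-- matrix of `x₁` -/
def Um : Matrix (Fin 4) (Fin 4) K := !![1, 0, 0, 0; 1, 1, 0, 0; 1, 0, 1, 0; 1, 1, 1, 1]
/-- matrix of the swap -/
def Sm : Matrix (Fin 4) (Fin 4) K := !![1, 0, 0, 0; 1, 1, 0, 0; 0, 0, 1, 0; 0, 0, 1, 1]

variable (h : HypG K 2 1)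

include h in
theorem neg_eq' (x : K) : -x = x := by
  have h2 := two_eq h
  linear_combination (-x) * h2

include h in
theorem linA_wa {γ : MulAut (Qa K)} (hγ : IsWa γ) : LinA Wm γ := by
  intro g
  rw [hγ.b, hγ.c, hγ.d, hγ.e, neg_eq' h, neg_eq' h]
  funext i
  fin_cases i <;> simp [Wm, Matrix.mulVec, dotProduct, Fin.sum_univ_four]

/-- `x₁` -/
def z1 : GU K := ⟨1, 0, 0, 0, 0, 0⟩

include h in
theorem linA_z1 : LinA Um (MulAut.conjNormal (z1 : GU K) : MulAut (Qa K)) := by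
  have h2 := two_eq h
  intro g
  have ha : (g : GU K).a = 0 := g.2
  set z := (MulAut.conjNormal (z1 : GU K) g : Qa K) with hz
  have hza : (z : GU K).a = 0 := z.2
  have h1 : (z : GU K) * z1 = z1 * (g : GU K) := by
    rw [hz, MulAut.conjNormal_apply]
    group
  have hb := congrArg GU.b h1
  have hc := congrArg GU.c h1
  have hd := congrArg GU.d h1
  have he := congrArg GU.e h1
  simp only [GU.mul_b, GU.mul_c, GU.mul_d, GU.mul_e, ha, z1] at hb hc hd he
  have b1 : (z : GU K).b = (g : GU K).b := by linear_combination hb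
  have c1 : (z : GU K).c = (g : GU K).b + (g : GU K).c := by
    rw [b1] at hc; linear_combination hc - (g : GU K).b * h2
  have d1 : (z : GU K).d = (g : GU K).b + (g : GU K).d := by
    rw [b1, c1] at hd; linear_combination hd - (2 * (g : GU K).b + (g : GU K).c) * h2
  have e1 : (z : GU K).e = (g : GU K).b + (g : GU K).c + (g : GU K).d + (g : GU K).e := by
    rw [b1, c1, d1] at he
    linear_combination he - (4 * (g : GU K).b + 2 * (g : GU K).c + 2 * (g : GU K).d) * h2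
  rw [b1, c1, d1, e1]
  funext i
  fin_cases i <;> simp [Um, Matrix.mulVec, dotProduct, Fin.sum_univ_four]

theorem linA_Sw : LinA Sm (rs (Sw h) (Sw_Qa h)) := by
  intro g
  have key : ∃ x : B6, (g : GU K) = dec x := by
    obtain ⟨x, hx⟩ := dec_surj h (g : GU K)
    exact ⟨x, hx.symm⟩
  obtain ⟨x, hx⟩ := key
  rw [rs_apply, hx, Sw_dec]
  have b1 : (dec (B6.sw x) : GU K).b = bt x.b := rfl
  have c1 : (dec (B6.sw x) : GU K).c = bt x.b + bt x.c := bt_xor h _ _
  have d1 : (dec (B6.sw x) : GU K).d = bt x.d := rfl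
  have e1 : (dec (B6.sw x) : GU K).e = bt x.d + bt x.e := bt_xor h _ _
  rw [b1, c1, d1, e1]
  funext i
  fin_cases i <;> simp [Sm, Matrix.mulVec, dotProduct, Fin.sum_univ_four, dec]

include h in
theorem oo : (1 : K) + 1 = 0 := by
  have h2 := two_eq h
  linear_combination h2

include h in
theorem mat_UW : (Um * Wm : Matrix (Fin 4) (Fin 4) K) = R1m * R2m := by
  have := oo h
  ext i j
  fin_cases i <;> fin_cases j <;> simp [Um, Wm, R1m, R2m, Matrix.mul_apply, Fin.sum_univ_four]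

include h in
theorem mat_SS : (Sm * Sm : Matrix (Fin 4) (Fin 4) K) = 1 := by
  have := oo h
  ext i j
  fin_cases i <;> fin_cases j <;> simp [Sm, Matrix.mul_apply, Fin.sum_univ_four, this]

include h in
theorem mat_SAS : (Sm * (R1m * R2m) * Sm : Matrix (Fin 4) (Fin 4) K) = (R1m * R2m * R2m) * (R1m * R2m * R2m) := by
  have := oo h
  ext i j
  fin_cases i <;> fin_cases j <;> simp [Sm, R1m, R2m, Matrix.mul_apply, Fin.sum_univ_four, this]

include h in
theorem mat_SBS : (Sm * (R1m * R2m * R2m) * Sm : Matrix (Fin 4) (Fin 4) K) = (R1m * R2m) * (R1m * R2m) := by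
  have := oo h
  ext i j
  fin_cases i <;> fin_cases j <;> simp [Sm, R1m, R2m, Matrix.mul_apply, Fin.sum_univ_four, this]

include h in
theorem mat_A3 : ((R1m * R2m) * ((R1m * R2m) * (R1m * R2m)) : Matrix (Fin 4) (Fin 4) K) = 1 := by
  have := oo h
  ext i j
  fin_cases i <;> fin_cases j <;> simp [R1m, R2m, Matrix.mul_apply, Fin.sum_univ_four, this]

include h in
theorem mat_B3 : ((R1m * R2m * R2m) * ((R1m * R2m * R2m) * (R1m * R2m * R2m)) : Matrix (Fin 4) (Fin 4) K) = 1 := by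
  have := oo h
  ext i j
  fin_cases i <;> fin_cases j <;> simp [R1m, R2m, Matrix.mul_apply, Fin.sum_univ_four, this]

theorem conjOn_GenR {A B : Matrix (Fin 4) (Fin 4) K} (hA : A * (A * A) = 1) (hB : B * (B * B) = 1)
    (h1 : Sm * A * Sm = B * B) (h2 : Sm * B * Sm = A * A) :
    ConjOn (Sw h) (GenR {A} : Subgroup (MulAut (Qa K))) (GenR {B}) := by
  have hS := linA_Sw h
  have hS' : LinA Sm (rs (Sw h) (Sw_Qa h))⁻¹ := linA_inv hS (mat_SS h)
  apply conjOn_of (Sw h) (Sw_Qa h)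
  · rintro x (hx | ⟨M, hM, hx⟩)
    · exact Subgroup.subset_closure (Or.inl (aut_conj _ (Sw_Qa h) hx))
    · rw [Set.mem_singleton_iff.1 hM] at hx
      have k1 := linA_mul (linA_mul hS hx) hS'
      rw [h1] at k1
      have k2 := linA_inv k1 hB
      rw [← inv_mem_iff]
      exact Subgroup.subset_closure (Or.inr ⟨B, rfl, k2⟩)
  · rintro x (hx | ⟨M, hM, hx⟩)
    · exact Subgroup.subset_closure (Or.inl (aut_conj' _ (Sw_Qa h) hx))
    · rw [Set.mem_singleton_iff.1 hM] at hx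
      have k1 := linA_mul (linA_mul hS' hx) hS
      rw [h2] at k1
      have k2 := linA_inv k1 hA
      rw [← inv_mem_iff]
      exact Subgroup.subset_closure (Or.inr ⟨A, rfl, k2⟩)

include h in
theorem gen_wa : (Gen IsWa ⊥ : Subgroup (MulAut (Qa K))) = GenR {R1m * R2m} := by
  have hc : (MulAut.conjNormal (z1 : GU K) : MulAut (Qa K)) ∈ autInducedBy ⊤ (Qa K) := conj_mem_aut _ _
  apply le_antisymm
  · rw [Gen, Subgroup.closure_le]
    rintro x ((hx | hx) | ⟨d, hd, hx⟩)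
    · exact Subgroup.subset_closure (Or.inl hx)
    · have k1 := linA_mul (linA_z1 h) (linA_wa h hx)
      rw [mat_UW h] at k1
      have k2 : (MulAut.conjNormal (z1 : GU K) : MulAut (Qa K)) * x ∈ GenR {R1m * R2m} :=
        Subgroup.subset_closure (Or.inr ⟨_, rfl, k1⟩)
      have k3 := mul_mem (inv_mem (Subgroup.subset_closure (Or.inl hc) :
        (MulAut.conjNormal (z1 : GU K) : MulAut (Qa K)) ∈ GenR {R1m * R2m})) k2
      rwa [inv_mul_cancel_left] at k3
    · have hd1 : d = 1 := Subgroup.mem_bot.1 hd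
      have : x = 1 := by
        refine MulEquiv.ext fun g => Subtype.ext ?_
        rw [hx g, hd1]; rfl
      rw [this]
      exact one_mem _
  · rw [GenR, Subgroup.closure_le]
    rintro x (hx | ⟨M, hM, hx⟩)
    · exact Subgroup.subset_closure (Or.inl (Or.inl hx))
    · rw [Set.mem_singleton_iff.1 hM] at hx
      have k1 := linA_mul (linA_z1 h) (linA_wa h wa_isWa)
      rw [mat_UW h] at k1
      have k2 := linA_inv (N := (R1m * R2m) * (R1m * R2m)) k1 (by rw [mul_assoc, mat_A3 h])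
      have k3 := linA_mul hx k2
      rw [mat_A3 h] at k3
      have k4 := aut_le_of_lin_one h k3
      have k5 : (MulAut.conjNormal (z1 : GU K) : MulAut (Qa K)) * wa ∈ (Gen IsWa ⊥ : Subgroup (MulAut (Qa K))) :=
        mul_mem (Subgroup.subset_closure (Or.inl (Or.inl hc))) (Subgroup.subset_closure (Or.inl (Or.inr wa_isWa)))
      have k6 := mul_mem (Subgroup.subset_closure (Or.inl (Or.inl k4)) :
        _ ∈ (Gen IsWa ⊥ : Subgroup (MulAut (Qa K)))) k5
      rwa [inv_mul_cancel_right] at k6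

theorem conjOn_ww : ConjOn (Sw h) (Gen IsWb ⊥ : Subgroup (MulAut (Qb K))) (Gen IsWb ⊥) := by
  have k := concl h (Sw h) (Sw_Qb h) (γ := ww h) (p := MulAut.conjNormal ((dB ⟨true, true, true, false, false⟩ : Qb K) : GU K))
    (q := 1) (conj_mem_aut _ _) (one_mem _) (by
      rw [mul_one, mul_inv_eq_iff_eq_mul]
      apply vb_ext h
      · rw [vb_mul, vb_mul, vb_mul, vb_Sw, vb_Sw, vb_conj, vb_ww, vb_ww]; rfl
      · rw [vb_mul, vb_mul, vb_mul, vb_Sw, vb_Sw, vb_conj, vb_ww, vb_ww]; rfl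
      · rw [vb_mul, vb_mul, vb_mul, vb_Sw, vb_Sw, vb_conj, vb_ww, vb_ww]; rfl)
  rwa [← gen_eq h] at k

end

theorem stSw2 : StSw2.{u} := by
  intro K _ h
  exact ⟨⟨Sw h, conjOn_ww h, conjOn_GenR h (mat_A3 h) (mat_B3 h) (mat_SAS h) (mat_SBS h),
    conjOn_GenR h (mat_B3 h) (mat_A3 h) (mat_SBS h) (mat_SAS h)⟩, Or.inl (gen_wa h)⟩

end Cfsg.Agent.H505.GT
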