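import Cfsg.Agent.H505.GT.Vb

/-!
# S5211 (`q = 2`): explicit automorphisms
-/

set_option autoImplicit false

namespace Cfsg.Agent.H505.GT

open Cfsg Cfsg.FusionSystem Cfsg.Agent.H756.PU Cfsg.Agent.H779.G2

universe u

namespace B6

/-- Boolean equality -/
def bq (x y : B6) : Bool :=
  !(x.a ^^ y.a) && !(x.b ^^ y.b) && !(x.c ^^ y.c) && !(x.d ^^ y.d) && !(x.e ^^ y.e) && !(x.f ^^ y.f)

theorem bq_iff (x y : B6) : bq x y = true ↔ x = y := by
  have key : ∀ u v : Bool, (u ^^ v) = false ↔ u = v := by decide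
  rcases x with ⟨x1, x2, x3, x4, x5, x6⟩
  rcases y with ⟨y1, y2, y3, y4, y5, y6⟩
  simp only [bq, B6.mk.injEq, Bool.and_eq_true, Bool.not_eq_true', key, and_assoc]

/-- quantifier -/
def all (P : B6 → Bool) : Bool :=
  [true, false].all fun a => [true, false].all fun b => [true, false].all fun c => [true, false].all fun d =>
    [true, false].all fun e => [true, false].all fun f => P ⟨a, b, c, d, e, f⟩

theorem all_iff (P : B6 → Bool) : all P = true ↔ ∀ x, P x = true := by
  constructor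
  · intro h x
    rcases x with ⟨a, b, c, d, e, f⟩
    simp only [all, List.all_eq_true] at h
    exact h a (by cases a <;> simp) b (by cases b <;> simp) c (by cases c <;> simp) d (by cases d <;> simp) e
      (by cases e <;> simp) f (by cases f <;> simp)
  · intro h
    simp only [all, List.all_eq_true]
    intros
    exact h _

/-- the homomorphism property -/
def hom (t : B6 → B6) : Bool := all fun x => all fun y => bq (t (x * y)) (t x * t y)

theorem hom_imp {t : B6 → B6} (h : hom t = true) (x y : B6) : t (x * y) = t x * t y := by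
  rw [hom, all_iff] at h
  have h1 := h x
  rw [all_iff] at h1
  exact (bq_iff _ _).1 (h1 y)

/-- the four automorphisms -/
def th (s t : Bool) (x : B6) : B6 :=
  ⟨x.a, x.b, cond s x.d x.c, cond s x.c x.d, x.e, (x.f ^^ (s && (x.e ^^ (x.c && x.d)))) ^^ (t && (x.c ^^ x.d))⟩

theorem th_ff (x : B6) : th false false x = x := by
  rcases x with ⟨a, b, c, d, e, f⟩
  cases f <;> rfl

theorem th_hom (s t : Bool) (x y : B6) : th s t (x * y) = th s t x * th s t y := by
  have h1 : hom (th true false) = true := by decide +kernel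
  have h2 : hom (th false true) = true := by decide +kernel
  have h3 : ∀ x, th true true x = th true false (th false true x) := by
    intro x
    rcases x with ⟨a, b, c, d, e, f⟩
    cases c <;> cases d <;> cases e <;> cases f <;> rfl
  cases s <;> cases t
  · rw [th_ff, th_ff, th_ff]
  · exact hom_imp h2 x y
  · exact hom_imp h1 x y
  · rw [h3, h3, h3, hom_imp h2, hom_imp h1]

theorem th_th (s t : Bool) (x : B6) : th s t (th s t x) = x := by
  rcases x with ⟨a, b, c, d, e, f⟩
  cases s <;> cases t <;> cases c <;> cases d <;> cases e <;> cases f <;> rfl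

/-- the swap -/
def sw (x : B6) : B6 := ⟨x.a, x.b, x.b ^^ x.c, x.d, x.d ^^ x.e, x.a ^^ x.f⟩

theorem sw_hom : hom sw = true := by decide +kernel

theorem sw_sw (x : B6) : sw (sw x) = x := by
  rcases x with ⟨a, b, c, d, e, f⟩
  cases a <;> cases b <;> cases c <;> cases d <;> cases e <;> cases f <;> rfl

end B6

namespace B5

/-- the homomorphism property -/
def hom (t : B5 → B5) : Bool := all fun x => all fun y => bq (t (ml x y)) (ml (t x) (t y))

theorem hom_imp {t : B5 → B5} (h : hom t = true) (x y : B5) : t (ml x y) = ml (t x) (t y) := by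
  rw [hom, all_iff] at h
  have h1 := h x
  rw [all_iff] at h1
  exact (bq_iff _ _).1 (h1 y)

theorem wB_hom : hom wB = true := by decide +kernel

theorem wB_wB (x : B5) : wB (wB x) = x := by
  rcases x with ⟨a, c, d, e, f⟩
  cases a <;> cases c <;> cases e <;> cases f <;> rfl

theorem io_th (s t : Bool) (x : B5) : io (th s t x) = B6.th s t (io x) := by
  rcases x with ⟨a, c, d, e, f⟩
  cases s <;> cases t <;> rfl

/-- the swap on `Q_b` -/
def sw (x : B5) : B5 := ⟨x.a, x.c, x.d, x.d ^^ x.e, x.a ^^ x.f⟩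

theorem io_sw (x : B5) : io (sw x) = B6.sw (io x) := by
  rcases x with ⟨a, c, d, e, f⟩
  cases c <;> rfl

end B5

open B5

section
variable {K : Type u} [Field K] (h : HypG K 2 1)

/-- automorphisms of `Q_b` from automorphisms of the model -/
noncomputable def mkB (t t' : B5 → B5) (h1 : ∀ x y, t (ml x y) = ml (t x) (t y)) (h2 : ∀ x, t (t' x) = x)
    (h3 : ∀ x, t' (t x) = x) : MulAut (Qb K) where
  toFun g := dB (t ((dBE h).symm g))
  invFun g := dB (t' ((dBE h).symm g))
  left_inv g := by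
    obtain ⟨x, rfl⟩ := (dBE h).surjective g
    show dB (t' ((dBE h).symm (dBE h (t ((dBE h).symm (dBE h x)))))) = dBE h x
    rw [Equiv.symm_apply_apply, Equiv.symm_apply_apply, h3]
    rfl
  right_inv g := by
    obtain ⟨x, rfl⟩ := (dBE h).surjective g
    show dB (t ((dBE h).symm (dBE h (t' ((dBE h).symm (dBE h x)))))) = dBE h x
    rw [Equiv.symm_apply_apply, Equiv.symm_apply_apply, h2]
    rfl
  map_mul' g g' := by
    obtain ⟨x, rfl⟩ := (dBE h).surjective g
    obtain ⟨y, rfl⟩ := (dBE h).surjective g'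
    have e : dBE h x * dBE h y = dBE h (ml x y) := (dB_ml h x y).symm
    rw [e, Equiv.symm_apply_apply, Equiv.symm_apply_apply, Equiv.symm_apply_apply, h1, dB_ml h]

theorem vb_mkB {t t' : B5 → B5} (h1 : ∀ x y, t (ml x y) = ml (t x) (t y)) (h2 : ∀ x, t (t' x) = x)
    (h3 : ∀ x, t' (t x) = x) (x : B5) : vb h (mkB h t t' h1 h2 h3) x = t x := by
  apply vb_eq
  show dB (t ((dBE h).symm (dBE h x))) = dB (t x)
  rw [Equiv.symm_apply_apply]

/-- the Weyl element -/
noncomputable def ww : MulAut (Qb K) := mkB h wB wB (hom_imp wB_hom) wB_wB wB_wB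

theorem vb_ww (x : B5) : vb h (ww h) x = wB x := vb_mkB h _ _ _ x

include h in
theorem neg_bt (x : Bool) : -(bt x : K) = bt x := by
  have h2 := two_eq h
  cases x
  · simp
  · show (-1 : K) = 1
    linear_combination (-1 : K) * h2

theorem ww_isWb : IsWb (ww h) := by
  have h2 := two_eq h
  have key : ∀ g : Qb K, ∃ x : B5, g = dB x ∧ ww h g = dB (wB x) := by
    intro g
    obtain ⟨x, rfl⟩ := dB_surj h g
    exact ⟨x, rfl, by rw [← vb_spec h, vb_ww]⟩
  constructor
  · intro g
    obtain ⟨x, e1, e2⟩ := key g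
    rw [e2, e1]
    exact (neg_bt h x.c).symm
  · intro g
    obtain ⟨x, e1, e2⟩ := key g
    rw [e2, e1]
    rfl
  · intro g
    obtain ⟨x, e1, e2⟩ := key g
    rw [e2, e1]
    show (bt x.d : K) = bt x.d - 2 * bt x.a * bt x.c
    rw [h2]; ring
  · intro g
    obtain ⟨x, e1, e2⟩ := key g
    rw [e2, e1]
    show (bt (x.f ^^ (x.a && x.c)) : K) = - bt x.f + 3 * bt x.a * bt x.c ^ 2
    rw [bt_xor h, bt_and, bt_sq]
    linear_combination (bt x.f - bt x.a * bt x.c) * h2
  · intro g
    obtain ⟨x, e1, e2⟩ := key g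
    rw [e2, e1]
    show (bt (x.e ^^ (x.a && x.c)) : K) = bt x.e - 3 * bt x.a ^ 2 * bt x.c
    rw [bt_xor h, bt_and, bt_sq]
    linear_combination (2 * bt x.a * bt x.c) * h2

theorem isWb_eq {γ : MulAut (Qb K)} (hγ : IsWb γ) : γ = ww h := by
  have hw := ww_isWb h
  refine MulEquiv.ext fun g => ?_
  apply Subtype.ext
  ext1
  · rw [hγ.a, hw.a]
  · have h1 : ((γ g : Qb K) : GU K).b = 0 := (γ g).2
    have h2 : ((ww h g : Qb K) : GU K).b = 0 := (ww h g).2
    rw [h1, h2]
  · rw [hγ.c, hw.c]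
  · rw [hγ.d, hw.d]
  · rw [hγ.e, hw.e]
  · rw [hγ.f, hw.f]

/-- the four automorphisms of `GU K` -/
noncomputable def Th (s t : Bool) : MulAut (GU K) :=
  mkA h (B6.th s t) (B6.th s t) (B6.th_hom s t) (B6.th_th s t) (B6.th_th s t)

theorem Th_dec (s t : Bool) (x : B6) : Th h s t (dec x) = dec (B6.th s t x) := mkA_apply h _ _ _ x

/-- the swap -/
noncomputable def Sw : MulAut (GU K) := mkA h B6.sw B6.sw (B6.hom_imp B6.sw_hom) B6.sw_sw B6.sw_sw

theorem Sw_dec (x : B6) : Sw h (dec x) = dec (B6.sw x) := mkA_apply h _ _ _ x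

theorem mem_Qb_dec (x : B6) : (dec x : GU K) ∈ Qb K ↔ x.b = false := by
  constructor
  · intro hh
    exact bt_inj (K := K) (y := false) hh
  · intro hh
    show (bt x.b : K) = 0
    rw [hh]; rfl

theorem mem_Qa_dec (x : B6) : (dec x : GU K) ∈ Qa K ↔ x.a = false := by
  constructor
  · intro hh
    exact bt_inj (K := K) (y := false) hh
  · intro hh
    show (bt x.a : K) = 0
    rw [hh]; rfl

theorem Th_Qb (s t : Bool) (g : GU K) : g ∈ Qb K ↔ Th h s t g ∈ Qb K := by
  obtain ⟨x, rfl⟩ := dec_surj h g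
  rw [Th_dec, mem_Qb_dec, mem_Qb_dec]
  rfl

theorem Sw_Qb (g : GU K) : g ∈ Qb K ↔ Sw h g ∈ Qb K := by
  obtain ⟨x, rfl⟩ := dec_surj h g
  rw [Sw_dec, mem_Qb_dec, mem_Qb_dec]
  rfl

theorem Sw_Qa (g : GU K) : g ∈ Qa K ↔ Sw h g ∈ Qa K := by
  obtain ⟨x, rfl⟩ := dec_surj h g
  rw [Sw_dec, mem_Qa_dec, mem_Qa_dec]
  rfl

theorem vb_Th (s t : Bool) (x : B5) : vb h (rs (Th h s t) (Th_Qb h s t)) x = th s t x := by
  apply vb_eq
  apply Subtype.ext
  rw [rs_apply, dB_coe, dB_coe, io_th, Th_dec]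

theorem vb_Sw (x : B5) : vb h (rs (Sw h) (Sw_Qb h)) x = sw x := by
  apply vb_eq
  apply Subtype.ext
  rw [rs_apply, dB_coe, dB_coe, io_sw, Sw_dec]

end

end Cfsg.Agent.H505.GT
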