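import Cfsg.Agent.H505.GT.Conj
import Cfsg.Agent.H505.GT.B5

/-!
# S5211 (`q = 2`): automorphisms of `Q_b` in the Boolean model
-/

set_option autoImplicit false

namespace Cfsg.Agent.H505.GT

open Cfsg Cfsg.FusionSystem Cfsg.Agent.H756.PU Cfsg.Agent.H779.G2

universe u

namespace B5

/-- the embedding of the models -/
def io (x : B5) : B6 := ⟨x.a, false, x.c, x.d, x.e, x.f⟩

theorem io_ml (x y : B5) : io (ml x y) = io x * io y := by
  have key1 : ∀ u v w : Bool, (u ^^ v ^^ (false && w)) = (u ^^ v) := by decide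
  have key2 : ∀ u v p q r : Bool, ((u ^^ v) ^^ ((p ^^ q) && r)) = (u ^^ v ^^ ((p ^^ q ^^ false) && r)) := by decide
  have key3 : ∀ xf yf xd yc xe xc ya : Bool, ((xf ^^ yf) ^^ ((xd && yc) ^^ (xc && ya))) =
    (xf ^^ yf ^^ (xd && yc) ^^ (xe && false) ^^ (xc && ya) ^^ (xd && ya && false) ^^ (false && xc && ya)
      ^^ (false && ya && yc) ^^ (xc && ya && false) ^^ (false && ya && false) ^^ (false && ya)) := by decide
  ext1
  · rfl
  · rfl
  · exact (key1 x.c y.c y.a).symm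
  · exact (key1 x.d y.d y.a).symm
  · exact key2 x.e y.e x.d x.c y.a
  · exact key3 x.f y.f x.d y.c x.e x.c y.a

theorem io_inj {x y : B5} (h : io x = io y) : x = y := by
  have h1 := congrArg B6.a h
  have h3 := congrArg B6.c h
  have h4 := congrArg B6.d h
  have h5 := congrArg B6.e h
  have h6 := congrArg B6.f h
  ext1
  exacts [h1, h3, h4, h5, h6]

theorem io_surj {y : B6} (h : y.b = false) : ∃ x, io x = y := by
  rcases y with ⟨a, b, c, d, e, f⟩
  cases h
  exact ⟨⟨a, c, d, e, f⟩, rfl⟩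

end B5

open B5

section
variable {K : Type u} [Field K]

/-- decoding for `Q_b` -/
def dB (x : B5) : Qb K := ⟨dec (io x), show bt false = (0 : K) from rfl⟩

theorem dB_coe (x : B5) : ((dB x : Qb K) : GU K) = dec (io x) := rfl

theorem dB_ml (h : HypG K 2 1) (x y : B5) : (dB (ml x y) : Qb K) = dB x * dB y := by
  apply Subtype.ext
  rw [Subgroup.coe_mul, dB_coe, dB_coe, dB_coe, io_ml, dec_mul h]

theorem dB_inj {x y : B5} (h : (dB x : Qb K) = dB y) : x = y :=
  io_inj (dec_inj (congrArg (fun z : Qb K => (z : GU K)) h))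

theorem dB_surj (h : HypG K 2 1) (g : Qb K) : ∃ x, dB x = g := by
  obtain ⟨y, hy⟩ := dec_surj h (g : GU K)
  have hb : y.b = false := by
    have h1 : (g : GU K).b = 0 := g.2
    rw [← hy] at h1
    exact bt_inj (K := K) (y := false) h1
  obtain ⟨x, rfl⟩ := io_surj hb
  exact ⟨x, Subtype.ext hy⟩

theorem dB_one (h : HypG K 2 1) : (dB one : Qb K) = 1 := by
  have h1 : (dB (ml one one) : Qb K) = dB one * dB one := dB_ml h _ _
  have h2 : ml one one = one := rfl
  rw [h2] at h1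
  exact left_eq_mul.1 h1

theorem ml_iv (x : B5) : ml x (iv x) = one := by
  have h1 : ∀ e p q r : Bool, ((e ^^ (e ^^ (p && (q ^^ r)))) ^^ ((q ^^ r) && p)) = false := by decide
  have h2 : ∀ f a c d : Bool, ((f ^^ (f ^^ ((c && d) ^^ (a && c)))) ^^ ((d && c) ^^ (c && a))) = false := by decide
  have h3 : ∀ u : Bool, (u ^^ u) = false := by decide
  ext1
  · exact h3 _
  · exact h3 _
  · exact h3 _
  · exact h1 x.e x.a x.d x.c
  · exact h2 x.f x.a x.c x.d

theorem dB_iv (h : HypG K 2 1) (x : B5) : (dB (iv x) : Qb K) = (dB x)⁻¹ := by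
  have h1 : (dB x : Qb K) * dB (iv x) = 1 := by rw [← dB_ml h, ml_iv, dB_one h]
  exact eq_inv_of_mul_eq_one_right h1

theorem dB_cj (h : HypG K 2 1) (g x : B5) : (dB (cj g x) : Qb K) = dB g * dB x * (dB g)⁻¹ := by
  rw [cj, dB_ml h, dB_ml h, dB_iv h]

theorem dB_cm (h : HypG K 2 1) (x y : B5) : (dB (cm x y) : Qb K) = dB x * dB y * ((dB x)⁻¹ * (dB y)⁻¹) := by
  rw [cm, dB_ml h, dB_ml h, dB_ml h, dB_iv h, dB_iv h]

/-- the bijection -/
noncomputable def dBE (h : HypG K 2 1) : B5 ≃ Qb K := Equiv.ofBijective dB ⟨fun _ _ h => dB_inj h, dB_surj h⟩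

/-- an automorphism of `Q_b` in the model -/
noncomputable def vb (h : HypG K 2 1) (γ : MulAut (Qb K)) (x : B5) : B5 := (dBE h).symm (γ (dB x))

variable (h : HypG K 2 1)

theorem vb_spec (γ : MulAut (Qb K)) (x : B5) : dB (vb h γ x) = γ (dB x) := (dBE h).apply_symm_apply _

theorem vb_eq {γ : MulAut (Qb K)} {x y : B5} (hh : γ (dB x) = dB y) : vb h γ x = y :=
  dB_inj (K := K) (by rw [vb_spec, hh])

theorem vb_ml (γ : MulAut (Qb K)) (x y : B5) : vb h γ (ml x y) = ml (vb h γ x) (vb h γ y) := by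
  apply vb_eq
  rw [dB_ml h, map_mul, dB_ml h, vb_spec, vb_spec]

theorem vb_one (γ : MulAut (Qb K)) : vb h γ one = one := by
  apply vb_eq
  rw [dB_one h, map_one]

theorem vb_iv (γ : MulAut (Qb K)) (x : B5) : vb h γ (iv x) = iv (vb h γ x) := by
  apply vb_eq
  rw [dB_iv h, map_inv, dB_iv h, vb_spec]

theorem vb_cm (γ : MulAut (Qb K)) (x y : B5) : vb h γ (cm x y) = cm (vb h γ x) (vb h γ y) := by
  rw [cm, cm, vb_ml, vb_ml, vb_ml, vb_iv, vb_iv]

theorem vb_inj (γ : MulAut (Qb K)) {x y : B5} (hh : vb h γ x = vb h γ y) : x = y := by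
  have := congrArg (dB (K := K)) hh
  rw [vb_spec, vb_spec] at this
  exact dB_inj (γ.injective this)

theorem vb_mul (γ δ : MulAut (Qb K)) (x : B5) : vb h (γ * δ) x = vb h γ (vb h δ x) := by
  apply vb_eq
  rw [vb_spec, vb_spec]
  rfl

theorem vb_pw (γ : MulAut (Qb K)) (x : B5) (b : Bool) : vb h γ (pw x b) = pw (vb h γ x) b := by
  cases b
  · exact vb_one h γ
  · rfl

theorem F_eq (x : B5) : F g1 g3 g4 g5 g6 x = x := by
  rcases x with ⟨a, c, d, e, f⟩
  cases a <;> cases c <;> cases d <;> cases e <;> cases f <;> rfl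

theorem vb_F (γ : MulAut (Qb K)) (x : B5) :
    vb h γ x = F (vb h γ g1) (vb h γ g3) (vb h γ g4) (vb h γ g5) (vb h γ g6) x := by
  conv_lhs => rw [← F_eq x]
  simp only [F, vb_ml, vb_pw]

theorem g5_eq : g5 = cm g1 g4 := rfl
theorem g6_eq : g6 = cm g3 g4 := rfl
theorem g56_eq : g56 = cm g1 g3 := rfl

theorem vb_ext {γ δ : MulAut (Qb K)} (h1 : vb h γ g1 = vb h δ g1) (h3 : vb h γ g3 = vb h δ g3)
    (h4 : vb h γ g4 = vb h δ g4) : γ = δ := by
  have h5 : vb h γ g5 = vb h δ g5 := by rw [g5_eq, vb_cm, vb_cm, h1, h4]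
  have h6 : vb h γ g6 = vb h δ g6 := by rw [g6_eq, vb_cm, vb_cm, h3, h4]
  refine MulEquiv.ext fun g => ?_
  obtain ⟨x, rfl⟩ := dB_surj h g
  rw [← vb_spec h, ← vb_spec h, vb_F h γ, vb_F h δ, h1, h3, h4, h5, h6]

/-- conjugation by an element of `Q_b` -/
theorem vb_conj (g x : B5) : vb h (MulAut.conjNormal ((dB g : Qb K) : GU K)) x = cj g x := by
  apply vb_eq
  apply Subtype.ext
  rw [MulAut.conjNormal_apply, dB_cj h]
  rfl

/-- `x₂` -/
def y2 : B6 := ⟨false, true, false, false, false, false⟩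

theorem y2_conj (x : B5) : y2 * io x = io (c2 x) * y2 := by
  rcases x with ⟨a, c, d, e, f⟩
  cases a <;> cases c <;> cases d <;> cases e <;> cases f <;> rfl

theorem vb_c2 (x : B5) : vb h (MulAut.conjNormal (dec y2 : GU K)) x = c2 x := by
  apply vb_eq
  apply Subtype.ext
  rw [MulAut.conjNormal_apply, mul_inv_eq_iff_eq_mul, dB_coe, dB_coe, ← dec_mul h, ← dec_mul h, y2_conj]

theorem cm_ne (x y : B5) (hh : cm x y ≠ one) : (x.a || x.c || x.d) = true ∧ (y.a || y.c || y.d) = true := by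
  have key : all (fun x => all fun y => bq (cm x y) one || ((x.a || x.c || x.d) && (y.a || y.c || y.d))) = true := by
    decide +kernel
  rw [all_iff] at key
  have k1 := key x
  rw [all_iff] at k1
  have k2 := k1 y
  rw [Bool.or_eq_true, Bool.and_eq_true] at k2
  rcases k2 with k | k
  · exact absurd ((bq_iff _ _).1 k) hh
  · exact k

theorem cm_cen (x y : B5) : cm x y = one ∨ cm x y = g5 ∨ cm x y = g6 ∨ cm x y = g56 := by
  have key : all (fun x => all fun y => bq (cm x y) one || bq (cm x y) g5 || bq (cm x y) g6 || bq (cm x y) g56) = true := by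
    decide +kernel
  rw [all_iff] at key
  have k1 := key x
  rw [all_iff] at k1
  have k2 := k1 y
  simp only [Bool.or_eq_true, bq_iff] at k2
  tauto

theorem vb_ni (γ : MulAut (Qb K)) {x y : B5} (hx : ml x x = one) (hc : cm x y ≠ one) : ni (vb h γ x) = true := by
  have h1 : cm (vb h γ x) (vb h γ y) ≠ one := by
    rw [← vb_cm, ← vb_one h γ]
    intro h2
    exact hc (vb_inj h γ h2)
  rw [ni, Bool.and_eq_true, bq_iff, ← vb_ml, hx, vb_one]
  exact ⟨(cm_ne _ _ h1).1, rfl⟩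

theorem vb_ni1 (γ : MulAut (Qb K)) : ni (vb h γ g1) = true :=
  vb_ni h γ (y := g4) rfl (fun hh => Bool.noConfusion (congrArg B5.e hh : true = false))
theorem vb_ni3 (γ : MulAut (Qb K)) : ni (vb h γ g3) = true :=
  vb_ni h γ (y := g4) rfl (fun hh => Bool.noConfusion (congrArg B5.f hh : true = false))
theorem vb_ni4 (γ : MulAut (Qb K)) : ni (vb h γ g4) = true :=
  vb_ni h γ (y := g1) rfl (fun hh => Bool.noConfusion (congrArg B5.e hh : true = false))

theorem vb_cen (γ : MulAut (Qb K)) {x : B5} (hx : x = g5 ∨ x = g6) : vb h γ x = g5 ∨ vb h γ x = g6 ∨ vb h γ x = g56 := by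
  have h1 : vb h γ x ≠ one := by
    rw [← vb_one h γ]
    intro h2
    have h3 := vb_inj h γ h2
    rcases hx with rfl | rfl
    · exact Bool.noConfusion (congrArg B5.e h3 : true = false)
    · exact Bool.noConfusion (congrArg B5.f h3 : true = false)
  have h2 : ∃ u v, vb h γ x = cm u v := by
    rcases hx with rfl | rfl
    · exact ⟨_, _, by rw [g5_eq, vb_cm]⟩
    · exact ⟨_, _, by rw [g6_eq, vb_cm]⟩
  obtain ⟨u, v, huv⟩ := h2
  rw [huv] at h1 ⊢
  rcases cm_cen u v with hh | hh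
  · exact absurd hh h1
  · exact hh

/-- the action on the center -/
theorem pi_cases (γ : MulAut (Qb K)) :
    (vb h γ g5 = g5 ∧ vb h γ g6 = g6) ∨ (vb h γ g5 = g56 ∧ vb h γ g6 = g6) ∨ (vb h γ g5 = g56 ∧ vb h γ g6 = g5) ∨
    (vb h γ g5 = g6 ∧ vb h γ g6 = g56) ∨ (vb h γ g5 = g6 ∧ vb h γ g6 = g5) ∨ (vb h γ g5 = g5 ∧ vb h γ g6 = g56) := by
  have h1 := vb_cen h γ (x := g5) (Or.inl rfl)
  have h2 := vb_cen h γ (x := g6) (Or.inr rfl)
  have h3 : vb h γ g5 ≠ vb h γ g6 := by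
    intro hh
    exact Bool.noConfusion (congrArg B5.e (vb_inj h γ hh) : true = false)
  rcases h1 with h1 | h1 | h1 <;> rcases h2 with h2 | h2 | h2 <;> rw [h1, h2] at h3 <;> first
    | exact absurd rfl h3
    | (rw [h1, h2]; simp)

end

end Cfsg.Agent.H505.GT
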